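import Cfsg.Agent.H319.RedI

/-!
# S3237: certificates excluding groups with Sylow 2-subgroups of order 128 (helper319)
-/

set_option autoImplicit false

open Subgroup Cfsg.Agent.Co2Type.Quad

namespace Cfsg.Agent.H319

universe u

/-- elements of `C(z)` which do not fit to the configuration -/
def Cert {X : Type*} [Group X] (z : X) : Prop :=
  ∃ x a b c s : X, (x * z = z * x ∧ a * z = z * a ∧ b * z = z * b ∧ c * z = z * c ∧ s * z = z * s) ∧
    (x * x * x = 1 ∧ x ≠ 1) ∧ (a * a = 1 ∧ a * (x * a * x⁻¹) = (x * a * x⁻¹) * a) ∧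
    (b * b = 1 ∧ b * (x * b * x⁻¹) = (x * b * x⁻¹) * b) ∧ (c * c = 1 ∧ c * (x * c * x⁻¹) = (x * c * x⁻¹) * c) ∧
    (a * b * a⁻¹ * b⁻¹) * c ≠ c * (a * b * a⁻¹ * b⁻¹) ∧ (s * s = 1 ∧ s * x * s⁻¹ = x⁻¹)

theorem Cert.map {X Y : Type*} [Group X] [Group Y] {z : X} (h : Cert z) (f : X →* Y) (hf : Function.Injective f) :
    Cert (f z) := by
  obtain ⟨x, a, b, c, s, ⟨h1, h2, h3, h4, h5⟩, ⟨h6, h7⟩, ⟨h8, h9⟩, ⟨h10, h11⟩, ⟨h12, h13⟩, h14, ⟨h15, h16⟩⟩ := h
  refine ⟨f x, f a, f b, f c, f s, ⟨?_, ?_, ?_, ?_, ?_⟩, ⟨?_, ?_⟩, ⟨?_, ?_⟩, ⟨?_, ?_⟩, ⟨?_, ?_⟩, ?_, ⟨?_, ?_⟩⟩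
  · rw [← map_mul, h1, map_mul]
  · rw [← map_mul, h2, map_mul]
  · rw [← map_mul, h3, map_mul]
  · rw [← map_mul, h4, map_mul]
  · rw [← map_mul, h5, map_mul]
  · rw [← map_mul, ← map_mul, h6, map_one]
  · intro h; exact h7 (hf (h.trans (map_one f).symm))
  · rw [← map_mul, h8, map_one]
  · simp only [← map_mul, ← map_inv]; rw [h9]
  · rw [← map_mul, h10, map_one]
  · simp only [← map_mul, ← map_inv]; rw [h11]
  · rw [← map_mul, h12, map_one]
  · simp only [← map_mul, ← map_inv]; rw [h13]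
  · simp only [← map_mul, ← map_inv]
    intro h; exact h14 (hf h)
  · rw [← map_mul, h15, map_one]
  · simp only [← map_mul, ← map_inv]; rw [h16]

theorem S4_inV : ∀ x e : S4, x * x * x = 1 → x ≠ 1 → e * e = 1 → e * (x * e * x⁻¹) = (x * e * x⁻¹) * e →
    inV e = true := by decide +kernel

theorem S4_s : ∀ x s : S4, x * x * x = 1 → s * x * s⁻¹ = x⁻¹ → inV s = true → x = 1 := by decide +kernel

variable {G : Type u} [Group G] {Q : Subgroup G} {z : G} {π : ↥(centralizer ({z} : Set G)) →* S4}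

theorem Conf.false_of_cert [Finite G] (C : Conf Q z π) {L SL : Subgroup G} (hL : L.Normal) (hz : z ∈ L)
    (D : SylData L z SL) (h128 : Nat.card SL = 128) (hc : Cert (⟨z, hz⟩ : L)) : False := by
  classical
  obtain ⟨x, a, b, c, s, ⟨h1, h2, h3, h4, h5⟩, ⟨h6, h7⟩, ⟨h8, h9⟩, ⟨h10, h11⟩, ⟨h12, h13⟩, h14, ⟨h15, h16⟩⟩ := hc
  set M : Subgroup G := L ⊓ centralizer ({z} : Set G) with hM
  have hN : NH z M := nh_inf hL z
  have hmem : ∀ y : L, y * ⟨z, hz⟩ = ⟨z, hz⟩ * y → (y : G) ∈ centralizer ({z} : Set G) := by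
    intro y hy
    exact mem_centralizer_singleton_iff.2 (congrArg Subtype.val hy)
  have hSLM : SL ≤ M := fun w hw => ⟨D.le hw, mem_centralizer_singleton_iff.2 (D.cent w hw)⟩
  have hodd : Odd (SL.relIndex M) := by
    have h1 : SL.relIndex M ∣ SL.relIndex L := by
      rw [← Subgroup.relIndex_mul_relIndex SL M L hSLM inf_le_left]
      exact Dvd.intro _ rfl
    exact D.odd.of_dvd_nat h1
  have hcardM := Cfsg.Agent.Lib.SylowNormalInf.card_mul_relIndex SL M hSLM
  rw [h128] at hcardM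
  -- the elements of `S₄`
  let cx : ↥(centralizer ({z} : Set G)) := ⟨x, hmem x h1⟩
  let ca : ↥(centralizer ({z} : Set G)) := ⟨a, hmem a h2⟩
  let cb : ↥(centralizer ({z} : Set G)) := ⟨b, hmem b h3⟩
  let cc : ↥(centralizer ({z} : Set G)) := ⟨c, hmem c h4⟩
  let cs : ↥(centralizer ({z} : Set G)) := ⟨s, hmem s h5⟩
  have hx3 : π cx * π cx * π cx = 1 := by
    rw [← map_mul, ← map_mul]
    have h6' : (x : G) * x * x = 1 := congrArg Subtype.val h6
    have : cx * cx * cx = 1 := Subtype.ext h6'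
    rw [this, map_one]
  have hx1 : π cx ≠ 1 := by
    intro h
    have hxQ : (x : G) ∈ Q := (C.ker cx).1 h
    apply h7
    apply Subtype.ext
    have h17 : (x : G) ^ 3 = 1 := by
      rw [pow_succ, pow_two]; exact congrArg Subtype.val h6
    have h18 : (x : G) ^ 4 = 1 := by
      have h19 : ((x : G) * x) * ((x : G) * x) = 1 := by
        rcases C.large.sq x hxQ with h20 | h20
        · rw [h20, one_mul]
        · rw [h20, C.zz]
      rw [show (4 : ℕ) = 2 * 2 from rfl, pow_mul, pow_two, pow_two]; exact h19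
    calc (x : G) = (x : G) ^ 4 * ((x : G) ^ 3)⁻¹ := by group
      _ = 1 := by rw [h17, h18]; group
  rcases C.card_inf hN with hh | ⟨hW8, hh⟩ | hh
  · have h17 := C.le_of_card_le hN hh
    rw [inf_eq_left.2 h17] at hh
    have h18 := Subgroup.card_le_of_le hSLM
    omega
  · -- class two
    have hcl := C.class_two hN hW8
    have hin : ∀ (e : L) (he : e * ⟨z, hz⟩ = ⟨z, hz⟩ * e), e * e = 1 → e * (x * e * x⁻¹) = (x * e * x⁻¹) * e →
        (e : G) ∈ PV π M := by
      intro e he he2 hex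
      refine ⟨⟨e.2, hmem e he⟩, hmem e he, ?_⟩
      apply S4_inV _ _ hx3 hx1
      · rw [← map_mul]
        have he2' : (e : G) * e = 1 := congrArg Subtype.val he2
        have : (⟨e, hmem e he⟩ : ↥(centralizer ({z} : Set G))) * ⟨e, hmem e he⟩ = 1 :=
          Subtype.ext he2'
        rw [this, map_one]
      · simp only [← map_mul, ← map_inv]
        congr 1
        have hex' : (e : G) * (x * e * (x : G)⁻¹) = (x * e * (x : G)⁻¹) * e := congrArg Subtype.val hex
        exact Subtype.ext hex'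
    have h17 := hcl a (hin a h2 h8 h9) b (hin b h3 h10 h11) c (hin c h4 h12 h13)
    exact h14 (Subtype.ext h17)
  · have hmul := C.card_eq_mul hN
    rw [inf_eq_right.2 hh, C.card] at hmul
    have hr := card_normal_S4 (C.resπ_normal hN)
    have hsr : ∀ (e : L) (he : e * ⟨z, hz⟩ = ⟨z, hz⟩ * e), π ⟨e, hmem e he⟩ ∈ (resπ π hN).range := by
      intro e he
      exact ⟨⟨e, ⟨e.2, hmem e he⟩⟩, rfl⟩
    have hss : π cs * π cs * (π cs * π cs) = 1 := by
      have h17 : π cs * π cs = 1 := by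
        rw [← map_mul]
        have h15' : (s : G) * s = 1 := congrArg Subtype.val h15
        have : cs * cs = 1 := Subtype.ext h15'
        rw [this, map_one]
      rw [h17, one_mul]
    have hsx : π cs * π cx * (π cs)⁻¹ = (π cx)⁻¹ := by
      simp only [← map_mul, ← map_inv]
      congr 1
      have h16' : (s : G) * x * (s : G)⁻¹ = (x : G)⁻¹ := congrArg Subtype.val h16
      exact Subtype.ext h16'
    rcases hr with h | h | h
    · rw [h, Subgroup.card_bot] at hmul
      omega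
    · have h17 := hsr s h5
      rw [h.1] at h17
      exact hx1 (S4_s _ _ hx3 hsx h17)
    · rcases h.2 with h12' | h24
      · exact hx1 (S4_s _ _ hx3 hsx (inV_of_mem (C.resπ_normal hN) h.1 h12'.le (hsr s h5) hss))
      · rw [h24] at hmul
        have h18 : 128 * SL.relIndex M = 768 := by rw [hcardM, hmul]
        have h19 : SL.relIndex M = 6 := by omega
        rw [h19] at hodd
        exact absurd hodd (by decide)

end Cfsg.Agent.H319
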