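import Cfsg.Agent.H319.Cert
import Cfsg.Agent.OddHalf.D5.Sym.MatchPerm

/-!
# S3237: certificates for the alternating groups of degree 10, 11 (helper319)
-/

set_option autoImplicit false

open Equiv Equiv.Perm

namespace Cfsg.Agent.H319.CertAlt

/-- the Boolean form of the certificate in `S_n` -/
def ok {n : ℕ} (z x a b c s : Perm (Fin n)) : Prop :=
  (x * z = z * x ∧ a * z = z * a ∧ b * z = z * b ∧ c * z = z * c ∧ s * z = z * s) ∧
    (x * x * x = 1 ∧ x ≠ 1) ∧ (a * a = 1 ∧ a * (x * a * x⁻¹) = (x * a * x⁻¹) * a) ∧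
    (b * b = 1 ∧ b * (x * b * x⁻¹) = (x * b * x⁻¹) * b) ∧ (c * c = 1 ∧ c * (x * c * x⁻¹) = (x * c * x⁻¹) * c) ∧
    (a * b * a⁻¹ * b⁻¹) * c ≠ c * (a * b * a⁻¹ * b⁻¹) ∧ (s * s = 1 ∧ s * x * s⁻¹ = x⁻¹) ∧
    (sign x = 1 ∧ sign a = 1 ∧ sign b = 1 ∧ sign c = 1 ∧ sign s = 1)

instance instDecidableOkH319 {n : ℕ} (z x a b c s : Perm (Fin n)) : Decidable (ok z x a b c s) := by
  unfold ok; infer_instance

theorem cert_of_ok {n : ℕ} {z : alternatingGroup (Fin n)} {x a b c s : Perm (Fin n)}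
    (h : ok (z : Perm (Fin n)) x a b c s) : Cert z := by
  obtain ⟨⟨h1, h2, h3, h4, h5⟩, ⟨h6, h7⟩, ⟨h8, h9⟩, ⟨h10, h11⟩, ⟨h12, h13⟩, h14, ⟨h15, h16⟩, ⟨k1, k2, k3, k4, k5⟩⟩ := h
  refine ⟨⟨x, mem_alternatingGroup.2 k1⟩, ⟨a, mem_alternatingGroup.2 k2⟩, ⟨b, mem_alternatingGroup.2 k3⟩,
    ⟨c, mem_alternatingGroup.2 k4⟩, ⟨s, mem_alternatingGroup.2 k5⟩,
    ⟨Subtype.ext h1, Subtype.ext h2, Subtype.ext h3, Subtype.ext h4, Subtype.ext h5⟩,
    ⟨Subtype.ext h6, fun h => h7 (congrArg Subtype.val h)⟩, ⟨Subtype.ext h8, Subtype.ext h9⟩,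
    ⟨Subtype.ext h10, Subtype.ext h11⟩, ⟨Subtype.ext h12, Subtype.ext h13⟩,
    fun h => h14 (congrArg Subtype.val h), ⟨Subtype.ext h15, Subtype.ext h16⟩⟩

/-- conjugation by an element of `S_n` -/
theorem cert_conj {n : ℕ} {z w : alternatingGroup (Fin n)} (g : Perm (Fin n))
    (h : g * (z : Perm (Fin n)) * g⁻¹ = w) (hz : Cert z) : Cert w := by
  have h1 : (MulAut.conjNormal g : MulAut (alternatingGroup (Fin n))) z = w :=
    Subtype.ext (by rw [MulAut.conjNormal_apply]; exact h)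
  have h2 := hz.map ((MulAut.conjNormal g : MulAut (alternatingGroup (Fin n))) :
    alternatingGroup (Fin n) →* alternatingGroup (Fin n)) (MulEquiv.injective _)
  have h3 : ((MulAut.conjNormal g : MulAut (alternatingGroup (Fin n))) :
    alternatingGroup (Fin n) →* alternatingGroup (Fin n)) z = w := h1
  rwa [h3] at h2

/-- three cycle -/
abbrev tc {n : ℕ} (a b c : Fin n) : Perm (Fin n) := swap a b * swap b c

section
variable (m : ℕ)

abbrev z4 : Perm (Fin (m + 10)) := swap 0 1 * swap 2 3 * swap 4 5 * swap 6 7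
abbrev x4 : Perm (Fin (m + 10)) := tc 0 6 3 * tc 1 7 2
abbrev a4 : Perm (Fin (m + 10)) := swap 0 6 * swap 1 7 * swap 2 5 * swap 3 4
abbrev b4 : Perm (Fin (m + 10)) := swap 0 1 * swap 2 3 * swap 6 7 * swap 8 9
abbrev c4 : Perm (Fin (m + 10)) := swap 0 4 * swap 1 5 * swap 2 6 * swap 3 7
abbrev s4 : Perm (Fin (m + 10)) := swap 2 7 * swap 3 6 * swap 4 5 * swap 8 9

abbrev z2 : Perm (Fin (m + 10)) := swap 0 1 * swap 2 3
abbrev x2 : Perm (Fin (m + 10)) := tc 4 6 7 * tc 5 8 9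
abbrev a2 : Perm (Fin (m + 10)) := swap 4 8 * swap 5 7
abbrev b2 : Perm (Fin (m + 10)) := swap 0 2 * swap 1 3 * swap 4 5 * swap 7 9
abbrev s2 : Perm (Fin (m + 10)) := swap 4 7 * swap 5 8

end

theorem ok4 (m : ℕ) (hm : m < 2) : ok (z4 m) (x4 m) (a4 m) (b4 m) (c4 m) (s4 m) := by
  interval_cases m <;> decide +kernel

theorem ok2 (m : ℕ) (hm : m < 2) : ok (z2 m) (x2 m) (a2 m) (b2 m) (a2 m) (s2 m) := by
  interval_cases m <;> decide +kernel

theorem alt (m : ℕ) (hm : m < 2) (z : alternatingGroup (Fin (m + 10))) (hz : z * z = 1) (hz1 : z ≠ 1) : Cert z := by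
  have hz' : (z : Perm (Fin (m + 10))) * z = 1 := congrArg Subtype.val hz
  have hz1' : (z : Perm (Fin (m + 10))) ≠ 1 := fun h => hz1 (Subtype.ext h)
  have h4 := OddHalf.D5.Sym.four_dvd_support hz' (mem_alternatingGroup.1 z.2)
  have h0 : (z : Perm (Fin (m + 10))).support.card ≠ 0 := by
    intro h
    exact hz1' (Perm.support_eq_empty_iff.1 (Finset.card_eq_zero.1 h))
  have hle : (z : Perm (Fin (m + 10))).support.card ≤ m + 10 := by
    have := Finset.card_le_univ (z : Perm (Fin (m + 10))).support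
    rwa [Fintype.card_fin] at this
  have h8 : (z : Perm (Fin (m + 10))).support.card = 4 ∨ (z : Perm (Fin (m + 10))).support.card = 8 := by
    obtain ⟨k, hk⟩ := h4
    rw [hk] at h0 hle ⊢
    omega
  rcases h8 with h | h
  · have hs : sign (z2 m) = 1 := by interval_cases m <;> decide +kernel
    have hq : z2 m * z2 m = 1 := by interval_cases m <;> decide +kernel
    have hc : (z2 m).support.card = 4 := by interval_cases m <;> decide +kernel
    obtain ⟨g, hg⟩ := OddHalf.D5.Sym.exists_conj_of_card hq hz' (hc.trans h.symm)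
    exact cert_conj (z := ⟨z2 m, mem_alternatingGroup.2 hs⟩) g hg (cert_of_ok (ok2 m hm))
  · have hs : sign (z4 m) = 1 := by interval_cases m <;> decide +kernel
    have hq : z4 m * z4 m = 1 := by interval_cases m <;> decide +kernel
    have hc : (z4 m).support.card = 8 := by interval_cases m <;> decide +kernel
    obtain ⟨g, hg⟩ := OddHalf.D5.Sym.exists_conj_of_card hq hz' (hc.trans h.symm)
    exact cert_conj (z := ⟨z4 m, mem_alternatingGroup.2 hs⟩) g hg (cert_of_ok (ok4 m hm))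

end Cfsg.Agent.H319.CertAlt
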