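import Cfsg.Agent.H319.Cert
import Cfsg.Agent.KFacts.MM.InvM22

/-!
# S3237: certificates for `M₂₂` (helper319)
-/

set_option autoImplicit false

namespace Cfsg.Agent.H319.CertMM

open Cfsg Cfsg.Agent.SporadicA.GolayBase Cfsg.Agent.SporadicA.GolayPerm
open Cfsg.Agent.KFacts.MM Cfsg.Agent.KFacts.MM.El Cfsg.Agent.SporadicStructure.M24El

def zP : ℕ := Data.zP
def xP : ℕ := 984605037244087073630786314590926944
def aP : ℕ := 979121071158219704299181131031480352
def bP : ℕ := 984724508489452699215480746259449888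
def cP : ℕ := 984721978136738731986858641841030208
def sP : ℕ := 984202951082164080105044112956360736

/-- in `M₂₂` -/
def good (P : ℕ) : Bool := ok P && Nat.beq (papp P 23) 23 && Nat.beq (papp P 0) 0

theorem good_z : good zP = true := by decide +kernel
theorem good_x : good xP = true := by decide +kernel
theorem good_a : good aP = true := by decide +kernel
theorem good_b : good bP = true := by decide +kernel
theorem good_c : good cP = true := by decide +kernel
theorem good_s : good sP = true := by decide +kernel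

theorem ok_of_good {P : ℕ} (h : good P = true) : ok P = true := by
  unfold good at h
  rw [Bool.and_eq_true, Bool.and_eq_true] at h
  exact h.1.1

theorem pt_zero : pt 0 = (some 0 : GolayPt) := by
  unfold pt
  simp

theorem pt_23 : pt 23 = (none : GolayPt) := by decide +kernel

theorem mem_of_good {P : ℕ} (h : good P = true) : pm P ∈ Spor.M22 := by
  have hok := ok_of_good h
  have hp : isPerm P = true := (ok_iff.1 hok).1
  unfold good at h
  rw [Bool.and_eq_true, Bool.and_eq_true, Nat.beq_eq, Nat.beq_eq] at h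
  obtain ⟨⟨-, h23⟩, h0⟩ := h
  refine ⟨⟨pm_mem_M24 hp (ok_iff.1 hok).2, ?_⟩, ?_⟩
  · show pm P none = none
    rw [← pt_23, ← pt_val, val_pm hp (by norm_num), h23]
  · show pm P (some 0) = some 0
    rw [← pt_zero, ← pt_val, val_pm hp (by norm_num), h0]

/-- the elements -/
noncomputable def m (P : ℕ) (h : good P = true) : Spor.M22 := ⟨pm P, mem_of_good h⟩

theorem eq_of {l k : List ℕ} (hl : okl l = true) (hk : okl k = true) (h : weq l k = true) : pr l = pr k :=
  pr_of_weq hl hk h

theorem r1 : pr [xP, zP] = pr [zP, xP] := eq_of (by decide +kernel) (by decide +kernel) (by decide +kernel)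
theorem r2 : pr [aP, zP] = pr [zP, aP] := eq_of (by decide +kernel) (by decide +kernel) (by decide +kernel)
theorem r3 : pr [bP, zP] = pr [zP, bP] := eq_of (by decide +kernel) (by decide +kernel) (by decide +kernel)
theorem r4 : pr [cP, zP] = pr [zP, cP] := eq_of (by decide +kernel) (by decide +kernel) (by decide +kernel)
theorem r5 : pr [sP, zP] = pr [zP, sP] := eq_of (by decide +kernel) (by decide +kernel) (by decide +kernel)
theorem r6 : pr [xP, xP, xP] = pr [] := eq_of (by decide +kernel) (by decide +kernel) (by decide +kernel)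
theorem r7 : pr [xP] ≠ pr [] := pr_ne (by decide +kernel) (by decide +kernel) (by decide +kernel)
theorem r8 : pr [aP, aP] = pr [] := eq_of (by decide +kernel) (by decide +kernel) (by decide +kernel)
theorem r9 : pr [aP, xP, aP, xP, xP] = pr [xP, aP, xP, xP, aP] :=
  eq_of (by decide +kernel) (by decide +kernel) (by decide +kernel)
theorem r10 : pr [bP, bP] = pr [] := eq_of (by decide +kernel) (by decide +kernel) (by decide +kernel)
theorem r11 : pr [bP, xP, bP, xP, xP] = pr [xP, bP, xP, xP, bP] :=
  eq_of (by decide +kernel) (by decide +kernel) (by decide +kernel)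
theorem r12 : pr [cP, cP] = pr [] := eq_of (by decide +kernel) (by decide +kernel) (by decide +kernel)
theorem r13 : pr [cP, xP, cP, xP, xP] = pr [xP, cP, xP, xP, cP] :=
  eq_of (by decide +kernel) (by decide +kernel) (by decide +kernel)
theorem r14 : pr [aP, bP, aP, bP, cP] ≠ pr [cP, aP, bP, aP, bP] :=
  pr_ne (by decide +kernel) (by decide +kernel) (by decide +kernel)
theorem r15 : pr [sP, sP] = pr [] := eq_of (by decide +kernel) (by decide +kernel) (by decide +kernel)
theorem r16 : pr [sP, xP, sP] = pr [xP, xP] := eq_of (by decide +kernel) (by decide +kernel) (by decide +kernel)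

theorem cert_z : Cert (m zP good_z) := by
  have h1 := r1
  have h2 := r2
  have h3 := r3
  have h4 := r4
  have h5 := r5
  have h6 := r6
  have h7 := r7
  have h8 := r8
  have h9 := r9
  have h10 := r10
  have h11 := r11
  have h12 := r12
  have h13 := r13
  have h14 := r14
  have h15 := r15
  have h16 := r16
  simp only [pr_cons, pr_nil, mul_one] at h1 h2 h3 h4 h5 h6 h7 h8 h9 h10 h11 h12 h13 h14 h15 h16
  have hxi : (pm xP)⁻¹ = pm xP * pm xP := inv_eq_of_mul_eq_one_right h6
  have hai : (pm aP)⁻¹ = pm aP := inv_eq_of_mul_eq_one_right h8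
  have hbi : (pm bP)⁻¹ = pm bP := inv_eq_of_mul_eq_one_right h10
  have hsi : (pm sP)⁻¹ = pm sP := inv_eq_of_mul_eq_one_right h15
  refine ⟨m xP good_x, m aP good_a, m bP good_b, m cP good_c, m sP good_s,
    ⟨Subtype.ext h1, Subtype.ext h2, Subtype.ext h3, Subtype.ext h4, Subtype.ext h5⟩,
    ⟨Subtype.ext ?_, fun h => h7 (congrArg Subtype.val h)⟩, ⟨Subtype.ext h8, Subtype.ext ?_⟩,
    ⟨Subtype.ext h10, Subtype.ext ?_⟩, ⟨Subtype.ext h12, Subtype.ext ?_⟩,
    fun h => h14 ?_, ⟨Subtype.ext h15, Subtype.ext ?_⟩⟩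
  · change pm xP * pm xP * pm xP = 1
    rw [mul_assoc]; exact h6
  · change pm aP * (pm xP * pm aP * (pm xP)⁻¹) = (pm xP * pm aP * (pm xP)⁻¹) * pm aP
    rw [hxi]; simp only [mul_assoc]; exact h9
  · change pm bP * (pm xP * pm bP * (pm xP)⁻¹) = (pm xP * pm bP * (pm xP)⁻¹) * pm bP
    rw [hxi]; simp only [mul_assoc]; exact h11
  · change pm cP * (pm xP * pm cP * (pm xP)⁻¹) = (pm xP * pm cP * (pm xP)⁻¹) * pm cP
    rw [hxi]; simp only [mul_assoc]; exact h13
  · have h17 : (pm aP * pm bP * (pm aP)⁻¹ * (pm bP)⁻¹) * pm cP = pm cP * (pm aP * pm bP * (pm aP)⁻¹ * (pm bP)⁻¹) :=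
      congrArg Subtype.val h
    rw [hai, hbi] at h17
    simpa only [mul_assoc] using h17
  · change pm sP * pm xP * (pm sP)⁻¹ = (pm xP)⁻¹
    rw [hxi, hsi]; simp only [mul_assoc]; exact h16

theorem m22 (z : Spor.M22) (hz : z * z = 1) (hz1 : z ≠ 1) : Cert z := by
  have h2 : (z : Equiv.Perm GolayPt) * z = 1 := congrArg Subtype.val hz
  have h1 : (z : Equiv.Perm GolayPt) ≠ 1 := fun h => hz1 (Subtype.ext h)
  obtain ⟨g, hg, e⟩ := InvM22.inv22 z z.2 h2 h1
  have h3 := cert_z.map (MulAut.conj (⟨g, hg⟩ : Spor.M22)).toMonoidHom (MulEquiv.injective _)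
  have h4 : (MulAut.conj (⟨g, hg⟩ : Spor.M22)).toMonoidHom (m zP good_z) = z := Subtype.ext e.symm
  rwa [h4] at h3

end Cfsg.Agent.H319.CertMM
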