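import Cfsg.Agent.TwoFusion.GoldU34
import Cfsg.Agent.RuRed.SzRelMore
import Cfsg.Agent.H322.Tri.Suz
import Cfsg.Agent.StdU3.EndLie
import Cfsg.Agent.H16.WrNum
import Cfsg.Agent.H3.CenT
import Cfsg.Agent.S1141
import Cfsg.Agent.TypeSpFour.Model
import Cfsg.Agent.S1170
import Cfsg.Agent.ThreePrime.Main
import Cfsg.Agent.StandardComponent.NoSE

/-!
# The list of S1170, small Sylow 2-subgroups (helper319)
-/

set_option autoImplicit false

open Subgroup

namespace Cfsg.Agent.H319.ClassTwoList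

universe u

open scoped Classical in
/-- `U₃(4)` has an involution centralizer of order divisible by 5 -/
theorem not_u34 {X : Type*} [Group X] [Finite X] {F : Type*} [Field F] [Fintype F] (hF : Fintype.card F = 16)
    (e : X ≃* Cfsg.PSU 3 F 4) {z : X} (hz : z * z = 1) (hz1 : z ≠ 1)
    (hc : Nat.card (centralizer ({z} : Set X)) ∣ 768) : False := by
  have : Fact (Nat.Prime 2) := ⟨Nat.prime_two⟩
  have hzp : IsPGroup 2 (zpowers z) := by
    rintro ⟨y, hy⟩
    obtain ⟨i, rfl⟩ := mem_zpowers_iff.1 hy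
    refine ⟨1, Subtype.ext ?_⟩
    change (z ^ i) ^ 2 ^ 1 = 1
    rw [← zpow_natCast, ← zpow_mul, mul_comm, zpow_mul]
    have : z ^ ((2 ^ 1 : ℕ) : ℤ) = 1 := by
      rw [zpow_natCast, pow_one, pow_two, hz]
    rw [this, one_zpow]
  obtain ⟨T, hT⟩ := hzp.exists_le_sylow
  obtain ⟨Z, D⟩ := TwoFusion.GoldU34.exists_data hF e T
  have hzT : z ∈ (T : Subgroup X) := hT (mem_zpowers z)
  have hzZ : z ∈ Z := D.inv z hzT hz
  obtain ⟨g, -, hodd, hgT, hgZ, hfix, -, htr⟩ := D.torus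
  -- `g³` commutes with `z`
  have key : ∀ w ∈ Z, w ≠ 1 → g * w * g⁻¹ ≠ w := by
    intro w hw hw1 h
    refine hw1 (hfix w hw ?_)
    calc g * w = (g * w * g⁻¹) * g := by group
      _ = w * g := by rw [h]
  set z1 := g * z * g⁻¹ with hz1'
  have hz1Z : z1 ∈ Z := hgZ z hzZ
  have hz1ne : z1 ≠ z := key z hzZ hz1
  have hz11 : z1 ≠ 1 := by
    intro h
    rw [hz1'] at h
    apply hz1
    calc z = g⁻¹ * (g * z * g⁻¹) * g := by group
      _ = 1 := by rw [h]; group
  set z2 := g * z1 * g⁻¹ with hz2'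
  have hz2Z : z2 ∈ Z := hgZ z1 hz1Z
  have hz2ne1 : z2 ≠ z1 := key z1 hz1Z hz11
  have hz21 : z2 ≠ 1 := by
    intro h
    rw [hz2'] at h
    apply hz11
    calc z1 = g⁻¹ * (g * z1 * g⁻¹) * g := by group
      _ = 1 := by rw [h]; group
  have hz2z : z2 ≠ z := by
    intro h
    have h1 : z * z1 ∈ Z := Z.mul_mem hzZ hz1Z
    have h2 : g * (z * z1) * g⁻¹ = z * z1 := by
      calc g * (z * z1) * g⁻¹ = (g * z * g⁻¹) * (g * z1 * g⁻¹) := by group
        _ = z1 * z := by rw [← hz1', ← hz2', h]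
        _ = z * z1 := (D.central z hzZ z1 (D.Z_le hz1Z)).symm
    by_cases h3 : z * z1 = 1
    · apply hz1ne
      calc z1 = z * (z * z1) := by rw [← mul_assoc, hz, one_mul]
        _ = z := by rw [h3, mul_one]
    · exact key _ h1 h3 h2
  have hz3 : g * z2 * g⁻¹ = z := by
    set z3 := g * z2 * g⁻¹ with hz3'
    have hz3Z : z3 ∈ Z := hgZ z2 hz2Z
    have h1 : z3 ≠ z2 := key z2 hz2Z hz21
    have h2 : z3 ≠ z1 := by
      intro h
      rw [hz3', hz1'] at h
      apply hz2z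
      calc z2 = g⁻¹ * (g * z2 * g⁻¹) * g := by group
        _ = z := by rw [h]; group
    have h3 : z3 ≠ 1 := by
      intro h
      rw [hz3'] at h
      apply hz21
      calc z2 = g⁻¹ * (g * z2 * g⁻¹) * g := by group
        _ = 1 := by rw [h]; group
    by_contra h4
    -- five different elements of a set of four
    have h5 : ({1, z, z1, z2, z3} : Finset X) ⊆ (Set.toFinite (Z : Set X)).toFinset := by
      intro w hw
      rw [Set.Finite.mem_toFinset]
      simp only [Finset.mem_insert, Finset.mem_singleton] at hw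
      rcases hw with rfl | rfl | rfl | rfl | rfl
      · exact Z.one_mem
      · exact hzZ
      · exact hz1Z
      · exact hz2Z
      · exact hz3Z
    have h6 := Finset.card_le_card h5
    rw [← Set.ncard_eq_toFinset_card (Z : Set X)] at h6
    have h7 : (Z : Set X).ncard = 4 := D.card_Z
    rw [h7, Finset.card_insert_of_notMem, Finset.card_insert_of_notMem, Finset.card_insert_of_notMem,
      Finset.card_insert_of_notMem, Finset.card_singleton] at h6
    · omega
    · simp [Ne.symm h1]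
    · simp [Ne.symm hz2ne1, Ne.symm h2]
    · simp [Ne.symm hz1ne, Ne.symm hz2z, Ne.symm h4]
    · simp [Ne.symm hz1, Ne.symm hz11, Ne.symm hz21, Ne.symm h3]
  have hg3 : g ^ 3 ∈ centralizer ({z} : Set X) := by
    rw [mem_centralizer_singleton_iff]
    have h1 : g ^ 3 * z * (g ^ 3)⁻¹ = z := by
      calc g ^ 3 * z * (g ^ 3)⁻¹ = g * (g * (g * z * g⁻¹) * g⁻¹) * g⁻¹ := by
            rw [pow_succ, pow_two, mul_inv_rev, mul_inv_rev]; simp only [mul_assoc]
        _ = z := by rw [← hz1', ← hz2', hz3]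
    calc g ^ 3 * z = (g ^ 3 * z * (g ^ 3)⁻¹) * g ^ 3 := by group
      _ = z * g ^ 3 := by rw [h1]
  have ho : orderOf (g ^ 3) ∣ 768 := by
    have h1 : orderOf (⟨g ^ 3, hg3⟩ : centralizer ({z} : Set X)) ∣ Nat.card (centralizer ({z} : Set X)) :=
      orderOf_dvd_natCard _
    rw [Subgroup.orderOf_mk] at h1
    exact h1.trans hc
  have ho2 : Odd (orderOf (g ^ 3)) := hodd.of_dvd_nat (orderOf_pow_dvd 3)
  have ho3 : orderOf (g ^ 3) ∣ 3 := by
    have h1 : (orderOf (g ^ 3)).Coprime (2 ^ 8) := Nat.Coprime.pow_right 8 (Nat.coprime_two_right.2 ho2)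
    exact h1.dvd_of_dvd_mul_left (show orderOf (g ^ 3) ∣ 2 ^ 8 * 3 by norm_num; exact ho)
  have hg9 : g ^ 9 = 1 := by
    have h1 : (g ^ 3) ^ 3 = 1 := orderOf_dvd_iff_pow_eq_one.1 ho3
    rw [← pow_mul] at h1
    exact h1
  -- counting
  have hex : ∃ t ∈ (T : Subgroup X), t ∉ Z := by
    by_contra hcon
    push Not at hcon
    have h1 := Subgroup.card_le_of_le (show (T : Subgroup X) ≤ Z from fun t ht => hcon t ht)
    have h2 := D.card_T
    have h3 := D.card_Z
    omega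
  obtain ⟨t, htT, htZ⟩ := hex
  have hsub : ((T : Subgroup X) : Set X) \ (Z : Set X) ⊆
      Set.range fun p : Fin 9 × Z => (p.2 : X)⁻¹ * (g ^ (p.1 : ℕ) * t * (g ^ (p.1 : ℕ))⁻¹) := by
    rintro u ⟨huT, huZ⟩
    obtain ⟨k, hk⟩ := htr t htT u huT htZ huZ
    have hk9 : g ^ k = g ^ (k % 9) := by
      conv_lhs => rw [← Nat.div_add_mod k 9, pow_add, pow_mul, hg9, one_pow, one_mul]
    rw [hk9] at hk
    refine ⟨(⟨k % 9, Nat.mod_lt _ (by norm_num)⟩, ⟨_, hk⟩), ?_⟩
    change (g ^ (k % 9) * t * (g ^ (k % 9))⁻¹ * u⁻¹)⁻¹ * (g ^ (k % 9) * t * (g ^ (k % 9))⁻¹) = u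
    group
  have h1 := Set.ncard_le_ncard hsub (Set.toFinite _)
  have h2 : (Set.range fun p : Fin 9 × Z => (p.2 : X)⁻¹ * (g ^ (p.1 : ℕ) * t * (g ^ (p.1 : ℕ))⁻¹)).ncard ≤ 36 := by
    rw [← Nat.card_coe_set_eq]
    refine (Nat.card_le_card_of_surjective _ (Set.rangeFactorization_surjective)).trans ?_
    rw [Nat.card_prod, Nat.card_fin, D.card_Z]
  have h3 : (((T : Subgroup X) : Set X) \ (Z : Set X)).ncard = 60 := by
    rw [Set.ncard_sdiff (show (Z : Set X) ⊆ ((T : Subgroup X) : Set X) from D.Z_le) (Set.toFinite _)]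
    have h4 : ((T : Subgroup X) : Set X).ncard = 64 := D.card_T
    have h5 : (Z : Set X).ncard = 4 := D.card_Z
    omega
  omega

/-- A Suzuki group with Sylow 2-subgroups of order at most 64 has Sylow 2-subgroups with centre of order 8 -/
theorem not_suzuki {X : Type*} [Group X] [Finite X] [IsSimpleGroup X]
    (hiso : Cfsg.Lie.IsoSuzuki X) (S : Sylow 2 X)
    (hc : Nat.card (S : Subgroup X) = 16 ∨ Nat.card (S : Subgroup X) = 32 ∨ (Nat.card (S : Subgroup X) = 64 ∧
      Nat.card ((S : Subgroup X) ⊓ centralizer ((S : Subgroup X) : Set X) : Subgroup X) ≤ 4)) : False := by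
  obtain ⟨F, _, _, R, h8, hT⟩ := H322.Tri.exists_rel_sylow hiso S
  have h1 := R.card_T
  rw [hT] at h1
  have h64 : 64 ≤ Nat.card (S : Subgroup X) := by
    rw [h1]; exact Nat.mul_le_mul h8 h8
  have h2 : R.Z ≤ ((S : Subgroup X) ⊓ centralizer ((S : Subgroup X) : Set X) : Subgroup X) := by
    intro x hx
    refine ⟨hT ▸ R.Z_le_T hx, mem_centralizer_iff.2 fun y hy => ?_⟩
    have hy' : y ∈ R.T := by rw [hT]; exact hy
    exact (R.Z_central hx hy').symm
  have h3 := Subgroup.card_le_of_le h2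
  rw [R.card_Z] at h3
  omega

theorem pow_dvd_sylow {X : Type*} [Group X] [Finite X] (S : Sylow 2 X) {k : ℕ} (h : 2 ^ k ∣ Nat.card X) :
    2 ^ k ∣ Nat.card (S : Subgroup X) := by
  have : Fact (Nat.Prime 2) := ⟨Nat.prime_two⟩
  have h1 := Subgroup.card_mul_index (S : Subgroup X)
  rw [← h1] at h
  have h2 : ¬ 2 ∣ (S : Subgroup X).index := S.not_dvd_index
  exact ((Nat.Prime.coprime_iff_not_dvd Nat.prime_two).2 h2).pow_left k |>.dvd_of_dvd_mul_right h

theorem main {X : Type u} [Group X] [Finite X] [IsSimpleGroup X] (S : Sylow 2 X)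
    (hna : ¬ ∀ x ∈ (S : Subgroup X), ∀ y ∈ (S : Subgroup X), x * y = y * x)
    (hcl : ∀ x ∈ (S : Subgroup X), ∀ y ∈ (S : Subgroup X), ∀ t ∈ (S : Subgroup X),
      (x * y * x⁻¹ * y⁻¹) * t = t * (x * y * x⁻¹ * y⁻¹))
    (hc : Nat.card (S : Subgroup X) = 16 ∨ Nat.card (S : Subgroup X) = 32 ∨ (Nat.card (S : Subgroup X) = 64 ∧
      Nat.card ((S : Subgroup X) ⊓ centralizer ((S : Subgroup X) : Set X) : Subgroup X) ≤ 4))
    {z : X} (hz : z * z = 1) (hz1 : z ≠ 1) (hcz : Nat.card (centralizer ({z} : Set X)) ∣ 768) :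
    ∃ (F : Type) (_ : Field F) (_ : Fintype F), Fintype.card F = 4 ∧
      Nonempty (X ≃* Matrix.ProjectiveSpecialLinearGroup (Fin 3) F) := by
  have hp2 : Fact (Nat.Prime 2) := ⟨Nat.prime_two⟩
  have h16 : 16 ≤ Nat.card (S : Subgroup X) := by omega
  have h64 : Nat.card (S : Subgroup X) ≤ 64 := by omega
  have h16' : 16 ∣ Nat.card X := by
    refine Dvd.dvd.trans ?_ (Subgroup.card_subgroup_dvd_card (S : Subgroup X))
    rcases hc with h | h | h
    · rw [h]
    · rw [h]; norm_num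
    · rw [h.1]; norm_num
  have hA1 : ¬ IsMulCommutative (S : Subgroup X) := by
    intro h
    exact hna fun x hx y hy => congrArg Subtype.val (h.is_comm.comm ⟨x, hx⟩ ⟨y, hy⟩)
  have hA2 : ⁅(⊤ : Subgroup (S : Subgroup X)), ⊤⁆ ≤ Subgroup.center (S : Subgroup X) := by
    rw [Subgroup.commutator_le]
    rintro ⟨x, hx⟩ - ⟨y, hy⟩ -
    rw [mem_center_iff]
    rintro ⟨t, ht⟩
    apply Subtype.ext
    exact (hcl x hx y hy t ht).symm
  rcases S1170.result S (S : Subgroup X) ⟨le_rfl, fun x _ g h => h⟩ hA1 hA2 with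
    h | h | h | h | h | h
  · exfalso
    obtain ⟨K, _, _, hK, ⟨e⟩⟩ := h
    rw [Nat.card_congr e.toEquiv] at h16'
    exact StdU3.EndLie.not_sixteen_dvd_psl hK h16'
  · exfalso
    obtain ⟨K, _, _, q, hK, hq, hq4, ⟨e⟩⟩ := h
    obtain ⟨f, hf, hf2⟩ := StandardComponent.NoSE.exists_pow_of_even_card (F := K) (by
      rw [hK, pow_two]; exact hq.mul_left q)
    -- `q` is a power of two
    obtain ⟨n, hn⟩ : ∃ n, q = 2 ^ n := by
      have h1 : q ∣ 2 ^ f := by rw [← hf2, hK]; exact dvd_pow_self q (by norm_num)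
      obtain ⟨n, -, hn⟩ := (Nat.dvd_prime_pow Nat.prime_two).1 h1
      exact ⟨n, hn⟩
    have hn2 : 2 ≤ n := by
      by_contra hcon
      have : 2 ^ n ≤ 2 ^ 1 := Nat.pow_le_pow_right (by norm_num) (by omega)
      omega
    have h1 : 2 ^ (3 * n) ∣ Nat.card X := by
      rw [hn] at hK e
      have h2 := (S1141.result hn2 hK default).1
      rw [Nat.card_congr e.toEquiv, mul_comm, pow_mul, ← h2]
      exact Subgroup.card_subgroup_dvd_card _
    have h2 := Nat.le_of_dvd (by omega) (pow_dvd_sylow S h1)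
    have h3 : n ≤ 2 := by
      by_contra hcon
      have : 2 ^ 9 ≤ 2 ^ (3 * n) := Nat.pow_le_pow_right (by norm_num) (by omega)
      omega
    have h4 : n = 2 := by omega
    have h5 : q = 4 := by rw [hn, h4]; norm_num
    subst h5
    exact not_u34 (by rw [hK]; norm_num) e hz hz1 hcz
  · exfalso
    have h3 := StdU3.EndLie.not_three_dvd_suzuki h
    refine not_suzuki (ThreePrime.Main.isoSuzuki ?_ h3) S hc
    push Not at hna
    obtain ⟨x, -, y, -, hxy⟩ := hna
    exact ⟨x, y, hxy⟩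
  · obtain ⟨K, _, _, hK, ⟨e⟩⟩ := h
    refine ⟨K, inferInstance, inferInstance, ?_, ⟨e⟩⟩
    obtain ⟨n, -, hn⟩ := FiniteField.card K 2
    have hn1 : 1 ≤ (n : ℕ) := n.pos
    have h1 := H16.WrNum.pow_dvd_PSL (p := 2) hn1 hn
    rw [← Nat.card_congr e.toEquiv] at h1
    have h2 := Nat.le_of_dvd (by omega) (pow_dvd_sylow S h1)
    have h3 : (n : ℕ) ≤ 2 := by
      by_contra hcon
      have : 2 ^ 9 ≤ 2 ^ (3 * (n : ℕ)) := Nat.pow_le_pow_right (by norm_num) (by omega)
      omega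
    have h4 : (n : ℕ) ≠ 1 := by
      intro h5
      rw [h5, pow_one] at hn
      have h6 := H3.CenT.card_psl_three_two hn
      rw [Nat.card_congr e.toEquiv, h6] at h16'
      omega
    have h5 : (n : ℕ) = 2 := by omega
    rw [hn, h5]; norm_num
  · exfalso
    obtain ⟨K, _, _, hK, hK4, ⟨e⟩⟩ := h
    obtain ⟨n, -, hn⟩ := FiniteField.card K 2
    have hev : Even (Fintype.card K) := by
      rw [hn]; exact (Nat.even_pow.2 ⟨even_two, n.pos.ne'⟩)
    have h1 := TypeSpFour.Model.card_PSp hev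
    have h2 : 2 ^ (4 * (n : ℕ)) ∣ Nat.card X := by
      rw [Nat.card_congr e.toEquiv, h1, hn, ← pow_mul, mul_comm (n : ℕ) 4]
      exact Dvd.intro _ rfl
    have h3 := Nat.le_of_dvd (by omega) (pow_dvd_sylow S h2)
    have h4 : 2 ≤ (n : ℕ) := by
      by_contra hcon
      have : 2 ^ (n : ℕ) ≤ 2 ^ 1 := Nat.pow_le_pow_right (by norm_num) (by omega)
      omega
    have : 2 ^ 8 ≤ 2 ^ (4 * (n : ℕ)) := Nat.pow_le_pow_right (by norm_num) (by omega)
    omega
  · exfalso
    obtain ⟨e⟩ := h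
    rw [Nat.card_congr e.toEquiv] at h16'
    have h := two_mul_nat_card_alternatingGroup (α := Fin 7)
    rw [Nat.card_perm, Nat.card_fin] at h
    have : Nat.factorial 7 = 5040 := by decide
    omega

end Cfsg.Agent.H319.ClassTwoList
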