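import Cfsg.Agent.H493.PGCount

/-!
# S3240: three classes of strongly self-centralizing subgroups (helper319)

`SSC A`: `C(a) = A` for all `1 ≠ a ∈ A`. Such a subgroup is an abelian Hall subgroup whose primes form a union of
components of the prime graph. `Four G a b c`: the numerical consequences of the hypotheses of S3240.
-/

set_option autoImplicit false

open Subgroup

namespace Cfsg.Agent.H319.FourComp

open Cfsg.Agent.H493.PG

variable {G : Type*} [Group G]

/-- strongly self-centralizing -/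
def SSC (A : Subgroup G) : Prop := ∀ a ∈ A, a ≠ 1 → centralizer ({a} : Set G) = A

theorem SSC.mem {A : Subgroup G} (h : SSC A) {a x : G} (ha : a ∈ A) (h1 : a ≠ 1) (hx : x * a = a * x) : x ∈ A := by
  rw [← h a ha h1]
  exact mem_centralizer_singleton_iff.2 hx

theorem SSC.sylow_le [Finite G] {A : Subgroup G} (h : SSC A) {p : ℕ} [Fact p.Prime] (P : Sylow p G) {a : G}
    (haP : a ∈ P) (ha : a ∈ A) (h1 : a ≠ 1) : (P : Subgroup G) ≤ A := by
  have hnt : Nontrivial (P : Subgroup G) := ⟨⟨⟨a, haP⟩, 1, fun h => h1 (congrArg Subtype.val h)⟩⟩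
  have hz := IsPGroup.center_nontrivial P.isPGroup'
  obtain ⟨z, hz1⟩ := exists_ne (1 : Subgroup.center (P : Subgroup G))
  have hc : ∀ x ∈ P, x * (z : P) = (z : P) * x := by
    intro x hx
    exact congrArg Subtype.val (Subgroup.mem_center_iff.1 z.2 ⟨x, hx⟩)
  have hzA : ((z : P) : G) ∈ A := h.mem ha h1 (hc a haP).symm
  intro x hx
  exact h.mem hzA (fun h2 => hz1 (Subtype.ext (Subtype.ext h2))) (hc x hx)

theorem SSC.exists_sylow [Finite G] {A : Subgroup G} (h : SSC A) {p : ℕ} (hp : p.Prime) (hd : p ∣ Nat.card A) :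
    ∃ P : Sylow p G, (P : Subgroup G) ≤ A ∧ ∃ a ∈ P, a ≠ 1 := by
  have := Fact.mk hp
  obtain ⟨a, ha⟩ := exists_prime_orderOf_dvd_card' p hd
  have ha' : orderOf (a : G) = p := by rw [Subgroup.orderOf_coe, ha]
  have hP : IsPGroup p (zpowers (a : G)) := IsPGroup.of_card (n := 1) (by rw [Nat.card_zpowers, ha', pow_one])
  obtain ⟨P, hP⟩ := hP.exists_le_sylow
  have haP : (a : G) ∈ P := hP (mem_zpowers _)
  have h1 : (a : G) ≠ 1 := by
    intro h1
    rw [h1, orderOf_one] at ha'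
    exact hp.one_lt.ne ha'
  exact ⟨P, h.sylow_le P haP a.2 h1, a, haP, h1⟩

theorem SSC.not_dvd_index [Finite G] {A : Subgroup G} (h : SSC A) {p : ℕ} (hp : p.Prime) (hd : p ∣ Nat.card A) :
    ¬ p ∣ A.index := by
  have := Fact.mk hp
  obtain ⟨P, hP, -⟩ := h.exists_sylow hp hd
  intro h1
  exact P.not_dvd_index (h1.trans (Subgroup.index_dvd_of_le hP))

theorem SSC.conj {A : Subgroup G} (h : SSC A) (g : G) : SSC (A.map (MulAut.conj g).toMonoidHom) := by
  rintro _ ⟨a, ha, rfl⟩ h1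
  have ha1 : a ≠ 1 := by
    rintro rfl
    exact h1 (map_one _)
  ext x
  constructor
  · intro hx
    have hx' := mem_centralizer_singleton_iff.1 hx
    change x * (g * a * g⁻¹) = (g * a * g⁻¹) * x at hx'
    refine ⟨g⁻¹ * x * g, h.mem ha ha1 ?_, ?_⟩
    · calc g⁻¹ * x * g * a = g⁻¹ * (x * (g * a * g⁻¹)) * g := by group
        _ = a * (g⁻¹ * x * g) := by rw [hx']; group
    · change g * (g⁻¹ * x * g) * g⁻¹ = x
      group
  · rintro ⟨y, hy, rfl⟩
    rw [mem_centralizer_singleton_iff]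
    change g * y * g⁻¹ * (g * a * g⁻¹) = g * a * g⁻¹ * (g * y * g⁻¹)
    have h2 : y * a = a * y := by
      rw [← h a ha ha1] at hy
      exact mem_centralizer_singleton_iff.1 hy
    calc g * y * g⁻¹ * (g * a * g⁻¹) = g * (y * a) * g⁻¹ := by group
      _ = g * a * g⁻¹ * (g * y * g⁻¹) := by rw [h2]; group

/-- a common prime divisor: conjugate -/
theorem SSC.exists_conj [Finite G] {A B : Subgroup G} (hA : SSC A) (hB : SSC B) {p : ℕ} (hp : p.Prime)
    (h1 : p ∣ Nat.card A) (h2 : p ∣ Nat.card B) : ∃ g : G, A.map (MulAut.conj g).toMonoidHom = B := by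
  have := Fact.mk hp
  obtain ⟨P, hP, a, haP, ha1⟩ := hA.exists_sylow hp h1
  obtain ⟨P', hP', -⟩ := hB.exists_sylow hp h2
  obtain ⟨g, hg⟩ := MulAction.exists_smul_eq G P P'
  refine ⟨g, ?_⟩
  have h3 : g * a * g⁻¹ ∈ P' := by
    rw [← hg]
    exact ⟨a, haP, rfl⟩
  have h4 : g * a * g⁻¹ ≠ 1 := by
    intro h4
    apply ha1
    calc a = g⁻¹ * (g * a * g⁻¹) * g := by group
      _ = 1 := by rw [h4]; group
  rw [← hB _ (hP' h3) h4]
  exact ((hA.conj g) _ ⟨a, hP haP, rfl⟩ h4).symm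

/-- adjacent primes -/
theorem SSC.dvd_of_rel [Finite G] {A : Subgroup G} (h : SSC A) {p r : ℕ} (hd : p ∣ Nat.card A) (hr : Rel G p r) :
    r ∣ Nat.card A := by
  obtain ⟨hp, hr, hne, g, hg⟩ := hr
  have := Fact.mk hp
  obtain ⟨P, hP, a, haP, ha1⟩ := h.exists_sylow hp hd
  have hx : orderOf (g ^ r) = p := by
    rw [orderOf_pow_of_dvd hr.ne_zero (by rw [hg]; exact Dvd.intro_left _ rfl), hg, Nat.mul_div_cancel _ hr.pos]
  have hQ : IsPGroup p (zpowers (g ^ r)) := IsPGroup.of_card (n := 1) (by rw [Nat.card_zpowers, hx, pow_one])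
  obtain ⟨Q, hQ⟩ := hQ.exists_le_sylow
  obtain ⟨u, hu⟩ := MulAction.exists_smul_eq G Q P
  have h1 : u * g ^ r * u⁻¹ ∈ P := by
    rw [← hu]
    exact ⟨g ^ r, hQ (mem_zpowers _), rfl⟩
  have h2 : u * g ^ r * u⁻¹ ≠ 1 := by
    intro h4
    have h5 : g ^ r = 1 := by
      calc g ^ r = u⁻¹ * (u * g ^ r * u⁻¹) * u := by group
        _ = 1 := by rw [h4]; group
    rw [h5, orderOf_one] at hx
    exact hp.one_lt.ne hx
  have h3 : u * g * u⁻¹ ∈ A := by
    refine h.mem (hP h1) h2 ?_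
    have : g * g ^ r = g ^ r * g := ((Commute.refl g).pow_right r).eq
    calc u * g * u⁻¹ * (u * g ^ r * u⁻¹) = u * (g * g ^ r) * u⁻¹ := by group
      _ = u * g ^ r * u⁻¹ * (u * g * u⁻¹) := by rw [this]; group
  have h4 : orderOf (u * g * u⁻¹) = p * r := by
    rw [← hg]
    exact orderOf_injective (MulAut.conj u).toMonoidHom (MulAut.conj u).injective g
  have h5 : orderOf (⟨u * g * u⁻¹, h3⟩ : A) = p * r := by rw [Subgroup.orderOf_mk, h4]
  exact (Dvd.intro_left p rfl).trans (h5 ▸ orderOf_dvd_natCard (⟨u * g * u⁻¹, h3⟩ : A))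

theorem SSC.dvd_of_conn [Finite G] {A : Subgroup G} (h : SSC A) {p r : ℕ} (hd : p ∣ Nat.card A) (hr : Conn G p r) :
    r ∣ Nat.card A := by
  induction hr with
  | refl => exact hd
  | tail _ h1 ih => exact h.dvd_of_rel ih h1

/-- Sylow's theorem -/
theorem SSC.count [Finite G] {A : Subgroup G} (h : SSC A) {p w : ℕ} (hp : p.Prime) (hd : Nat.card A = p)
    (hw : A.relIndex (normalizer (A : Set G)) = w) : ∃ k, Nat.card G = p * w * k ∧ k % p = 1 := by
  have := Fact.mk hp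
  obtain ⟨P, hP, a, haP, ha1⟩ := h.exists_sylow hp (by rw [hd])
  have hPA : (P : Subgroup G) = A := by
    refine Subgroup.eq_of_le_of_card_ge hP ?_
    rw [hd]
    obtain ⟨n, hn⟩ := IsPGroup.iff_card.1 P.isPGroup'
    rw [hn]
    have hn0 : n ≠ 0 := by
      rintro rfl
      have : Nontrivial (P : Subgroup G) := ⟨⟨⟨a, haP⟩, 1, fun h => ha1 (congrArg Subtype.val h)⟩⟩
      have h3 := Finite.one_lt_card (α := (P : Subgroup G))
      rw [hn, pow_zero] at h3
      exact absurd h3 (lt_irrefl 1)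
    exact Nat.le_self_pow hn0 p
  have h1 := P.card_eq_index_normalizer
  have h2 := card_sylow_modEq_one p G
  rw [h1] at h2
  have h3 : (normalizer ((P : Subgroup G) : Set G)) = normalizer (A : Set G) := by rw [hPA]
  refine ⟨(normalizer (A : Set G)).index, ?_, ?_⟩
  · rw [← Subgroup.card_mul_index A, ← Subgroup.relIndex_mul_index (Subgroup.le_normalizer (H := A)), hw, hd, mul_assoc]
  · have h4 : (normalizer ((P : Subgroup G) : Set G)).index % p = 1 % p := h2
    rw [h3, Nat.mod_eq_of_lt hp.one_lt] at h4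
    exact h4

/-! ### the numerical situation -/

/-- one class -/
structure Cls (G : Type*) [Group G] (n w : ℕ) : Prop where
  dvd : n ∣ Nat.card G
  odd : ¬ 2 ∣ n
  conn : ∀ {p r : ℕ}, p ∣ n → Conn G p r → r ∣ n
  count : n.Prime → ∃ k, Nat.card G = n * w * k ∧ k % n = 1

/-- the numerical consequences of the hypotheses of S3240 -/
structure Four (G : Type*) [Group G] (a b c : ℕ) : Prop where
  A : Cls G a 2
  B : Cls G b 4
  C : Cls G c 4
  ha : 5 ≤ a
  hb : 5 < b
  hc : 5 < c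
  ab : a.Coprime b
  ac : a.Coprime c
  bc : b.Coprime c
  bound : Nat.card G ≤ 3 * (a * b * c) ^ 2
  two : 2 ∣ Nat.card G

theorem Cls.congr {H : Type*} [Group H] {n w : ℕ} (e : G ≃* H) (h : Cls G n w) : Cls H n w where
  dvd := by rw [← Nat.card_congr e.toEquiv]; exact h.dvd
  odd := h.odd
  conn hp hr := h.conn hp (hr.of_injective e.symm.toMonoidHom e.symm.injective)
  count hn := by rw [← Nat.card_congr e.toEquiv]; exact h.count hn

theorem Four.congr {H : Type*} [Group H] {a b c : ℕ} (e : G ≃* H) (h : Four G a b c) : Four H a b c where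
  A := h.A.congr e
  B := h.B.congr e
  C := h.C.congr e
  ha := h.ha
  hb := h.hb
  hc := h.hc
  ab := h.ab
  ac := h.ac
  bc := h.bc
  bound := by rw [← Nat.card_congr e.toEquiv]; exact h.bound
  two := by rw [← Nat.card_congr e.toEquiv]; exact h.two

theorem SSC.cls [Finite G] {A : Subgroup G} (h : SSC A) {w : ℕ}
    (hw : A.relIndex (normalizer (A : Set G)) = w) (h2 : 2 ∣ w) : Cls G (Nat.card A) w where
  dvd := Subgroup.card_subgroup_dvd_card A
  odd h3 := by
    refine h.not_dvd_index Nat.prime_two h3 ?_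
    rw [← Subgroup.relIndex_mul_index (Subgroup.le_normalizer (H := A)), hw]
    exact h2.mul_right _
  conn hp hr := h.dvd_of_conn hp hr
  count hn := h.count hn rfl hw

theorem SSC.coprime [Finite G] {A B : Subgroup G} (hA : SSC A) (hB : SSC B)
    (h : ∀ g : G, A.map (MulAut.conj g).toMonoidHom ≠ B) : (Nat.card A).Coprime (Nat.card B) := by
  refine Nat.coprime_of_dvd fun p hp h1 h2 => ?_
  obtain ⟨g, hg⟩ := hA.exists_conj hB hp h1 h2
  exact h g hg

theorem Cls.ne_two {n w : ℕ} (h : Cls G n w) {p : ℕ} (hp : p ∣ n) : p ≠ 2 := by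
  rintro rfl
  exact h.odd hp

theorem Cls.not_conn {n w : ℕ} (h : Cls G n w) {p : ℕ} (hp : p ∣ n) : ¬ Conn G p 2 := fun hc => h.odd (h.conn hp hc)

namespace Four

variable {a b c : ℕ} (F : Four G a b c)
include F

theorem dvd : a * b * c ∣ Nat.card G :=
  (Nat.Coprime.mul_left F.ac F.bc).mul_dvd_of_dvd_of_dvd (F.ab.mul_dvd_of_dvd_of_dvd F.A.dvd F.B.dvd) F.C.dvd

/-- all primes of `abc` -/
theorem not_conn {p : ℕ} (hp : p.Prime) (h : p ∣ a * b * c) : ¬ Conn G p 2 := by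
  rcases (Nat.Prime.dvd_mul hp).1 h with h | h
  · rcases (Nat.Prime.dvd_mul hp).1 h with h | h
    · exact F.A.not_conn h
    · exact F.B.not_conn h
  · exact F.C.not_conn h

theorem exists_primes : ∃ p q r : ℕ, p.Prime ∧ q.Prime ∧ r.Prime ∧ p ∣ a ∧ q ∣ b ∧ r ∣ c ∧ p ≠ q ∧ p ≠ r ∧ q ≠ r := by
  obtain ⟨p, hp, hpa⟩ := Nat.exists_prime_and_dvd (n := a) (by have := F.ha; omega)
  obtain ⟨q, hq, hqb⟩ := Nat.exists_prime_and_dvd (n := b) (by have := F.hb; omega)
  obtain ⟨r, hr, hrc⟩ := Nat.exists_prime_and_dvd (n := c) (by have := F.hc; omega)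
  refine ⟨p, q, r, hp, hq, hr, hpa, hqb, hrc, ?_, ?_, ?_⟩
  · rintro rfl
    exact hp.one_lt.ne' (Nat.eq_one_of_dvd_coprimes F.ab hpa hqb)
  · rintro rfl
    exact hp.one_lt.ne' (Nat.eq_one_of_dvd_coprimes F.ac hpa hrc)
  · rintro rfl
    exact hq.one_lt.ne' (Nat.eq_one_of_dvd_coprimes F.bc hqb hrc)

theorem not_few (h : Few 4 G) : False := by
  have h2 := F.two
  obtain ⟨p, q, r, hp, hq, hr, hpa, hqb, hrc, h1, h3, h4⟩ := F.exists_primes
  have hp2 := F.A.ne_two hpa
  have hq2 := F.B.ne_two hqb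
  have hr2 := F.C.ne_two hrc
  obtain ⟨i, j, hij, hc⟩ := h ![2, p, q, r] (by
    intro i j hij
    fin_cases i <;> fin_cases j <;> simp_all) (by
    intro i
    fin_cases i
    · exact ⟨Nat.prime_two, h2⟩
    · exact ⟨hp, hpa.trans F.A.dvd⟩
    · exact ⟨hq, hqb.trans F.B.dvd⟩
    · exact ⟨hr, hrc.trans F.C.dvd⟩)
  have e1 : ¬ Conn G p 2 := F.A.not_conn hpa
  have e2 : ¬ Conn G q 2 := F.B.not_conn hqb
  have e3 : ¬ Conn G r 2 := F.C.not_conn hrc
  have e4 : ¬ Conn G p q := fun h => hq.one_lt.ne' (Nat.eq_one_of_dvd_coprimes F.ab (F.A.conn hpa h) hqb)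
  have e5 : ¬ Conn G p r := fun h => hr.one_lt.ne' (Nat.eq_one_of_dvd_coprimes F.ac (F.A.conn hpa h) hrc)
  have e6 : ¬ Conn G q r := fun h => hr.one_lt.ne' (Nat.eq_one_of_dvd_coprimes F.bc (F.B.conn hqb h) hrc)
  fin_cases i <;> fin_cases j
  · exact hij rfl
  · exact e1 hc.symm
  · exact e2 hc.symm
  · exact e3 hc.symm
  · exact e1 hc
  · exact hij rfl
  · exact e4 hc
  · exact e5 hc
  · exact e2 hc
  · exact e4 hc.symm
  · exact hij rfl
  · exact e6 hc
  · exact e3 hc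
  · exact e5 hc.symm
  · exact e6 hc.symm
  · exact hij rfl

/-- the part of the order prime to the component of `2` -/
theorem dvd_left {K M : ℕ} (hN : Nat.card G ∣ M * K)
    (h : ∀ p : ℕ, p.Prime → p ∣ K → p ∣ Nat.card G → Conn G p 2) : a * b * c ∣ M := by
  refine (Nat.Coprime.dvd_of_dvd_mul_right ?_ (F.dvd.trans hN))
  refine Nat.coprime_of_dvd fun p hp h2 h3 => ?_
  exact F.not_conn hp h2 (h p hp h3 (h2.trans F.dvd))

theorem false_of_le {M : ℕ} (h : a * b * c ∣ M) (hM : M ≠ 0) (hlt : 3 * M ^ 2 < Nat.card G) : False := by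
  have h1 := Nat.le_of_dvd (Nat.pos_of_ne_zero hM) h
  have h2 : (a * b * c) ^ 2 ≤ M ^ 2 := Nat.pow_le_pow_left h1 2
  have h3 := F.bound
  omega

end Four

end Cfsg.Agent.H319.FourComp
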