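import Cfsg.Agent.H319.FourComp
import Cfsg.Agent.H493.PGRows3
import Cfsg.Agent.H371.Core.ExcTwo
import Cfsg.Agent.H371.Core.Torus

/-!
# S3240: the rows `E₈(q)`, `²E₆(q)` and the other exceptional groups (helper319)
-/

set_option autoImplicit false

namespace Cfsg.Agent.H319.FourComp

open Cfsg.Agent.H493.PG Cfsg.Agent.H493.PGRows
open Cfsg.Agent

variable {G : Type*} [Group G] {a b c : ℕ}

theorem Four.false_of_ratio (F : Four G a b c) {M K g : ℕ} (hN : g * Nat.card G = M * K) (hg : g ≤ 3)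
    (h : ∀ p : ℕ, p.Prime → p ∣ K → p ∣ Nat.card G → Conn G p 2) (hM : M ≠ 0) (hlt : 9 * M < K) : False := by
  have h1 : a * b * c ∣ M := F.dvd_left (Dvd.intro_left g hN) h
  refine F.false_of_le h1 hM ?_
  have h2 : 9 * M * M < K * M := Nat.mul_lt_mul_of_pos_right hlt (Nat.pos_of_ne_zero hM)
  have h3 : g * Nat.card G ≤ 3 * Nat.card G := Nat.mul_le_mul_right _ hg
  nlinarith

section

universe u

theorem Four.e8' (F : Type u) [Field F] [Finite F] (H : Four ↥(Cfsg.Lie.chevE8.group F) a b c) : False := by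
  have := Fintype.ofFinite F
  set q := Nat.card F with hqdef
  have hq : 2 ≤ q := Finite.one_lt_card
  have hcard := Cfsg.Agent.S1065.result (F := F) (q := q) (by rw [hqdef, Nat.card_eq_fintype_card])
  have hpos : ∀ n, n ≠ 0 → 1 ≤ q ^ n - 1 := fun n hn => by
    have h1 : 2 ≤ q ^ n := hq.trans (Nat.le_self_pow hn q)
    omega
  have hM : (q ^ 20 - 1) * (q ^ 24 - 1) * (q ^ 30 - 1) ≤ q ^ 74 := by
    calc (q ^ 20 - 1) * (q ^ 24 - 1) * (q ^ 30 - 1) ≤ q ^ 20 * q ^ 24 * q ^ 30 :=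
          Nat.mul_le_mul (Nat.mul_le_mul (Nat.sub_le _ _) (Nat.sub_le _ _)) (Nat.sub_le _ _)
      _ = q ^ 74 := by ring
  have hM0 : (q ^ 20 - 1) * (q ^ 24 - 1) * (q ^ 30 - 1) ≠ 0 := by
    have h1 := hpos 20 (by norm_num)
    have h2 := hpos 24 (by norm_num)
    have h3 := hpos 30 (by norm_num)
    exact Nat.mul_ne_zero (Nat.mul_ne_zero (by omega) (by omega)) (by omega)
  refine H.false_of_ratio (g := 1) (M := (q ^ 20 - 1) * (q ^ 24 - 1) * (q ^ 30 - 1))
    (K := q ^ 120 * (q ^ 2 - 1) * (q ^ 8 - 1) * (q ^ 12 - 1) * (q ^ 14 - 1) * (q ^ 18 - 1))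
    (by rw [hcard]; ring) (by norm_num) ?_ hM0 ?_
  · intro p hp hpK hpG
    have key : ∀ m : ℕ, H378.ExcAdj.od q p = m → m = 15 ∨ m = 20 ∨ m = 24 ∨ m = 30 → False := by
      intro m hm hm'
      have h1 := (H371.Core.od_facts hp (by omega) hm).1
      have h2 : ∀ n, p ∣ q ^ n - 1 → m ∣ n := fun n hn => by
        rw [← hm]
        exact H378.ExcAdj.od_dvd (by omega) hn
      rcases (Nat.Prime.dvd_mul hp).1 hpK with hpK | hpK
      · rcases (Nat.Prime.dvd_mul hp).1 hpK with hpK | hpK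
        · rcases (Nat.Prime.dvd_mul hp).1 hpK with hpK | hpK
          · rcases (Nat.Prime.dvd_mul hp).1 hpK with hpK | hpK
            · rcases (Nat.Prime.dvd_mul hp).1 hpK with hpK | hpK
              · exact h1 (hp.dvd_of_dvd_pow hpK)
              · have := Nat.le_of_dvd (by norm_num) (h2 2 hpK)
                omega
            · have := Nat.le_of_dvd (by norm_num) (h2 8 hpK)
              omega
          · have := Nat.le_of_dvd (by norm_num) (h2 12 hpK)
            omega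
        · have := Nat.le_of_dvd (by norm_num) (h2 14 hpK)
          omega
      · have := h2 18 hpK
        rcases hm' with rfl | rfl | rfl | rfl <;> norm_num at this
    rcases H378.ExcAdj.adj_E8 F hp hpG with h | h | h | h | h | h
    · rw [h]; exact Conn.refl _
    · exact conn_of h.conn
    · exact (key _ h (by norm_num)).elim
    · exact (key _ h (by norm_num)).elim
    · exact (key _ h (by norm_num)).elim
    · exact (key _ h (by norm_num)).elim
  · have h1 : q ^ 120 ≤ q ^ 120 * (q ^ 2 - 1) * (q ^ 8 - 1) * (q ^ 12 - 1) * (q ^ 14 - 1) * (q ^ 18 - 1) := by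
      have := Nat.mul_le_mul (Nat.mul_le_mul (Nat.mul_le_mul (Nat.mul_le_mul (Nat.mul_le_mul (le_refl (q ^ 120))
        (hpos 2 (by norm_num))) (hpos 8 (by norm_num))) (hpos 12 (by norm_num))) (hpos 14 (by norm_num)))
        (hpos 18 (by norm_num))
      simpa using this
    have h2 : 9 * q ^ 74 < q ^ 120 := by
      have h3 : 2 ^ 46 ≤ q ^ 46 := Nat.pow_le_pow_left hq 46
      have h4 : q ^ 120 = q ^ 46 * q ^ 74 := by ring
      have h5 : 0 < q ^ 74 := by positivity
      rw [h4]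
      exact Nat.mul_lt_mul_of_pos_right (lt_of_lt_of_le (by norm_num) h3) h5
    omega

theorem Four.e8 (F : Four G a b c) (h : Cfsg.Lie.IsoE8 G) : False := by
  obtain ⟨K, _, _, ⟨e⟩⟩ := h
  exact Four.e8' K (F.congr e)

open Cfsg.Agent.H493.PGTorus Cfsg.Agent.H493.PGCyc in
theorem Four.twE6 (F : Four G a b c) (h : Cfsg.Lie.Iso2E6 G) : False := by
  obtain ⟨K, _, _, q, hq, hK, ⟨e⟩⟩ := h
  have H := F.congr e
  have hcard := Cfsg.Agent.S1066.result hq hK
  have hq2 := hq.two_le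
  have hpos : ∀ n, n ≠ 0 → 1 ≤ q ^ n - 1 := fun n hn => by
    have h1 : 2 ≤ q ^ n := hq2.trans (Nat.le_self_pow hn q)
    omega
  have hM0 : (q ^ 8 - 1) * (q ^ 9 + 1) * (q ^ 12 - 1) ≠ 0 := by
    have h1 := hpos 8 (by norm_num)
    have h3 := hpos 12 (by norm_num)
    exact Nat.mul_ne_zero (Nat.mul_ne_zero (by omega) (by omega)) (by omega)
  refine H.false_of_ratio (g := Nat.gcd 3 (q + 1)) (M := (q ^ 8 - 1) * (q ^ 9 + 1) * (q ^ 12 - 1))
    (K := q ^ 36 * (q ^ 2 - 1) * (q ^ 5 + 1) * (q ^ 6 - 1))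
    (by rw [hcard]; ring) (Nat.le_of_dvd (by norm_num) (Nat.gcd_dvd_left _ _)) ?_ hM0 ?_
  · intro p hp hpK hpG
    by_cases h3 : p = 3
    · subst h3
      exact (conn_of (H371.Core.three_conn_2E6 hq hK)).symm
    have hpZ : Prime (p : ℤ) := Nat.prime_iff_prime_int.1 hp
    refine (conn_of (H371.Core.main_2E6 hq hK hp h3 ?_)).symm
    have hsub : ∀ n, ((q ^ n - 1 : ℕ) : ℤ) = (q : ℤ) ^ n - 1 := fun n => by
      rw [Nat.cast_sub (Nat.one_le_pow _ _ (by omega))]
      push_cast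
      ring
    rcases (Nat.Prime.dvd_mul hp).1 hpK with hpK | hpK
    · rcases (Nat.Prime.dvd_mul hp).1 hpK with hpK | hpK
      · rcases (Nat.Prime.dvd_mul hp).1 hpK with hpK | hpK
        · exact Or.inl (hp.dvd_of_dvd_pow hpK)
        · have h1 : (p : ℤ) ∣ pv c1 q * pv c2 q := by
            have := Int.natCast_dvd_natCast.2 hpK
            rw [hsub] at this
            rw [pv_c1, pv_c2]
            refine this.trans (dvd_of_eq (by ring))
          rcases hpZ.dvd_or_dvd h1 with h | h <;> tauto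
      · have h1 : (p : ℤ) ∣ pv c2 q * pv c10 q := by
          have := Int.natCast_dvd_natCast.2 hpK
          push_cast at this
          rw [pv_c2, pv_c10]
          refine this.trans (dvd_of_eq (by ring))
        rcases hpZ.dvd_or_dvd h1 with h | h <;> tauto
    · have h1 : (p : ℤ) ∣ pv c1 q * pv c2 q * (pv c3 q * pv c6 q) := by
        have := Int.natCast_dvd_natCast.2 hpK
        rw [hsub] at this
        rw [pv_c1, pv_c2, pv_c3, pv_c6]
        refine this.trans (dvd_of_eq (by ring))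
      rcases hpZ.dvd_or_dvd h1 with h | h
      · rcases hpZ.dvd_or_dvd h with h | h <;> tauto
      · rcases hpZ.dvd_or_dvd h with h | h <;> tauto
  · have h1 : q ^ 41 ≤ q ^ 36 * (q ^ 2 - 1) * (q ^ 5 + 1) * (q ^ 6 - 1) := by
      have := Nat.mul_le_mul (Nat.mul_le_mul (Nat.mul_le_mul (le_refl (q ^ 36))
        (hpos 2 (by norm_num))) (Nat.le_succ (q ^ 5))) (hpos 6 (by norm_num))
      calc q ^ 41 = q ^ 36 * 1 * q ^ 5 * 1 := by ring
        _ ≤ _ := this
    have h2 : (q ^ 8 - 1) * (q ^ 9 + 1) * (q ^ 12 - 1) ≤ q ^ 30 := by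
      have h3 : q ^ 9 + 1 ≤ q ^ 10 := by
        have h4 : 1 ≤ q ^ 9 := Nat.one_le_pow _ _ (by omega)
        have h5 : q ^ 10 = q * q ^ 9 := by ring
        rw [h5]
        nlinarith
      calc (q ^ 8 - 1) * (q ^ 9 + 1) * (q ^ 12 - 1) ≤ q ^ 8 * q ^ 10 * q ^ 12 :=
            Nat.mul_le_mul (Nat.mul_le_mul (Nat.sub_le _ _) h3) (Nat.sub_le _ _)
        _ = q ^ 30 := by ring
    have h6 : 9 * q ^ 30 < q ^ 41 := by
      have h3 : 2 ^ 11 ≤ q ^ 11 := Nat.pow_le_pow_left hq2 11
      have h4 : q ^ 41 = q ^ 11 * q ^ 30 := by ring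
      have h5 : 0 < q ^ 30 := by positivity
      rw [h4]
      exact Nat.mul_lt_mul_of_pos_right (lt_of_lt_of_le (by norm_num) h3) h5
    omega

end

end Cfsg.Agent.H319.FourComp
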