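import Cfsg.Agent.H319.FourRows
import Cfsg.Agent.H319.FourExc

/-!
# S3240: the known simple groups with three classes of strongly self-centralizing subgroups (helper319)
-/

set_option autoImplicit false

open Cfsg

namespace Cfsg.Agent.H319.FourComp

theorem Four.suzuki {G : Type*} [Group G] [Finite G] (hG : ¬ IsMulCommutative G) (h : Cfsg.IsKnownSimple' G) {a b c : ℕ}
    (F : Four G a b c) : Cfsg.Lie.IsoSuzuki G := by
  rcases h with h | h | h | h | h | h | h | h | h | h
  · exfalso
    have h' : (Nat.card G).Prime := h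
    have := Fact.mk h'
    have hcyc : IsCyclic G := isCyclic_of_prime_card (p := Nat.card G) rfl
    exact hG inferInstance
  · exact (F.alternating h).elim
  · exact (F.psl h).elim
  · exact (F.not_few ((Cfsg.Agent.H493.PGRows.few_psp h).mono (by norm_num))).elim
  · exact (F.not_few (Cfsg.Agent.H493.PGRows.few_psu h)).elim
  · exact (F.not_few ((Cfsg.Agent.H493.PGRows.few_omegaOdd h).mono (by norm_num))).elim
  · exact (F.not_few ((Cfsg.Agent.H493.PGRows.few_omegaPlus h).mono (by norm_num))).elim
  · exact (F.not_few (Cfsg.Agent.H493.PGRows.few_omegaMinus h)).elim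
  · rcases h with h | h | h | h | h | h | h | h | h | h | h
    · exact (F.not_few (Cfsg.Agent.H493.PGRows.few_isoChevG2 h)).elim
    · exact (F.not_few (Cfsg.Agent.H493.PGRows.few_isoF4 h)).elim
    · exact (F.not_few ((Cfsg.Agent.H493.PGRows.few_isoE6 h).mono (by norm_num))).elim
    · exact (F.not_few (Cfsg.Agent.H493.PGRows.few_isoE7 h)).elim
    · exact (F.e8 h).elim
    · exact (F.twE6 h).elim
    · exact (F.not_few ((Cfsg.Agent.H493.PGD4T.few_iso3D4 h).mono (by norm_num))).elim
    · exact h
    · exact (F.not_few (Cfsg.Agent.H493.PG.few_isoRee h)).elim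
    · exact (F.not_few (Cfsg.Agent.H493.PGF4T.few_iso2F4 h)).elim
    · exact (F.not_few ((Cfsg.Agent.H493.PGRows.few_tits h).mono (by norm_num))).elim
  · exact (F.sporadic h).elim

end Cfsg.Agent.H319.FourComp
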