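import Cfsg.Agent.H319.FourComp
import Cfsg.Agent.H493.PGRows2
import Cfsg.Agent.H493.PGRows3

/-!
# S3240: the rows with few prime graph components, sporadic, alternating, linear (helper319)
-/

set_option autoImplicit false

namespace Cfsg.Agent.H319.FourComp

open Cfsg.Agent.H493.PG Cfsg.Agent.H493.PGRows
open Cfsg.Agent

universe u

variable {G : Type u} [Group G] {a b c : ℕ}

theorem chk : ∀ M ∈ [385, 1463, 315, 21], ∀ x ∈ Nat.divisors M, ∀ y ∈ Nat.divisors M, ∀ z ∈ Nat.divisors M,
    x * y * z ∣ M → 5 ≤ x → 5 < y → 5 < z → (M ≠ 21) ∧ (y = 7 ∨ z = 7 ∨ (x = 7 ∧ M = 1463)) := by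
  decide +kernel

theorem Four.seven (F : Four G a b c) {M : ℕ} (hM : M ∈ [385, 1463, 315, 21]) (h : a * b * c ∣ M) :
    (M ≠ 21) ∧ (b = 7 ∨ c = 7 ∨ (a = 7 ∧ M = 1463)) := by
  have hM0 : M ≠ 0 := by
    rintro rfl
    revert hM
    decide
  have h1 : a ∣ M := ((Dvd.intro _ rfl).mul_right c).trans h
  have h2 : b ∣ M := ((Dvd.intro_left a rfl).mul_right c).trans h
  have h3 : c ∣ M := (Dvd.intro_left _ rfl).trans h
  exact chk M hM a (Nat.mem_divisors.2 ⟨h1, hM0⟩) b (Nat.mem_divisors.2 ⟨h2, hM0⟩) c (Nat.mem_divisors.2 ⟨h3, hM0⟩)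
    h F.ha F.hb F.hc

theorem Four.kill_special (F : Four G a b c) {N M : ℕ} (hN : Nat.card G = N) (h : a * b * c ∣ M)
    (hNM : (N, M) ∈ [(443520, 385), (175560, 1463), (20160, 315), (168, 21)]) : False := by
  have hM : M ∈ [385, 1463, 315, 21] := by
    simp only [List.mem_cons, Prod.mk.injEq, List.not_mem_nil, or_false] at hNM ⊢
    omega
  obtain ⟨h21, h7⟩ := F.seven hM h
  have h7p : Nat.Prime 7 := by norm_num
  rcases h7 with h7 | h7 | ⟨h7, h7'⟩
  · subst h7
    obtain ⟨k, hk, hk1⟩ := F.B.count h7p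
    rw [hN] at hk
    simp only [List.mem_cons, Prod.mk.injEq, List.not_mem_nil, or_false] at hNM
    omega
  · subst h7
    obtain ⟨k, hk, hk1⟩ := F.C.count h7p
    rw [hN] at hk
    simp only [List.mem_cons, Prod.mk.injEq, List.not_mem_nil, or_false] at hNM
    omega
  · subst h7
    obtain ⟨k, hk, hk1⟩ := F.A.count h7p
    rw [hN] at hk
    simp only [List.mem_cons, Prod.mk.injEq, List.not_mem_nil, or_false] at hNM
    omega

/-! ### sporadic groups -/

theorem Four.dvd_nr [Finite G] (F : Four G a b c) {N : ℕ} (hN : Nat.card G = N) (R : List ℕ) {M K : ℕ} (hMK : N = M * K)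
    (hR : ∀ r ∈ R, ¬ r ∣ K) (h : ∀ r, r.Prime → r ∣ N → r ∉ R → H94.PG.Sp.Nr G r) : a * b * c ∣ M := by
  refine F.dvd_left (K := K) (by rw [hN, hMK]) fun p hp hpK hpG => ?_
  exact conn_of (h p hp (hN ▸ hpG) fun hpR => hR p hpR hpK).conn

theorem Four.kill_nr [Finite G] (F : Four G a b c) {N : ℕ} (hN : Nat.card G = N) (R : List ℕ) (M K : ℕ)
    (hMK : N = M * K) (hR : ∀ r ∈ R, ¬ r ∣ K) (h : ∀ r, r.Prime → r ∣ N → r ∉ R → H94.PG.Sp.Nr G r)
    (hM : M ≠ 0) (hlt : 3 * M ^ 2 < N) : False :=
  F.false_of_le (F.dvd_nr hN R hMK hR h) hM (by rw [hN]; exact hlt)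

open H94.PG.Sp in
theorem Four.sporadic [Finite G] (F : Four G a b c) (h : Cfsg.IsSporadicGroup G) : False := by
  rcases h with h | h | h | h | h | h | h | h | h | h | h | h | h | h | h | h | h | h | h | h | h | h | h | h | h | h
  · exact F.not_few (few_nr [5, 11] (NotCT.Orders.m11 h) (fun r hr hd hR => nr_m11' h hr hd hR) (by simp))
  · exact F.not_few (few_nr [11] (NotCT.Orders.m12 h) (fun r hr hd hR => nr_m12' h hr hd hR) (by simp))
  · exact F.kill_special (NotCT.Orders.m22 h) (F.dvd_nr (NotCT.Orders.m22 h) [5, 7, 11] (M := 385) (K := 1152)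
      (by norm_num) (by decide) (fun r hr hd hR => nr_m22' h hr hd hR)) (by simp)
  · exact F.kill_nr (NotCT.Orders.m23 h) [5, 11, 23] 1265 (10200960 / 1265) (by norm_num) (by decide +kernel)
      (fun r hr hd hR => nr_m23' h hr hd hR) (by norm_num) (by norm_num)
  · exact F.not_few (few_nr [11, 23] (NotCT.Orders.m24 h) (fun r hr hd hR => nr_m24' h hr hd hR) (by simp))
  · exact F.kill_special (NotCT.Orders.j1 h) (F.dvd_nr (NotCT.Orders.j1 h) [7, 11, 19] (M := 1463) (K := 120)
      (by norm_num) (by decide) (fun r hr hd hR => nr_j1 h hr hd hR)) (by simp)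
  · exact F.not_few (few_nr [7] (NotCT.Orders.j2 h) (fun r hr hd hR => nr_j2 h hr hd hR) (by simp))
  · exact F.not_few (few_nr [17, 19] (NotCT.Orders.j3 h) (fun r hr hd hR => nr_j3 h hr hd hR) (by simp))
  · exact F.kill_nr (NotCT.Orders.j4 h) [23, 29, 31, 37, 43] (23 * 29 * 31 * 37 * 43)
      (86775571046077562880 / (23 * 29 * 31 * 37 * 43)) (by norm_num) (by decide +kernel)
      (fun r hr hd hR => nr_j4 h hr hd hR) (by norm_num) (by norm_num)
  · exact F.not_few (few_nr [23] (NotCT.Orders.co1 h) (fun r hr hd hR => nr_co1 h hr hd hR) (by simp))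
  · exact F.not_few (few_nr [11, 23] (NotCT.Orders.co2 h) (fun r hr hd hR => nr_co2 h hr hd hR) (by simp))
  · exact F.not_few (few_nr [23] (NotCT.Orders.co3 h) (fun r hr hd hR => nr_co3 h hr hd hR) (by simp))
  · exact F.not_few (few_nr [11] (NotCT.Orders.mcl h) (fun r hr hd hR => nr_mcl h hr hd hR) (by simp))
  · exact F.not_few (few_nr [7, 11] (NotCT.Orders.hs h) (fun r hr hd hR => nr_hs h hr hd hR) (by simp))
  · exact F.not_few (few_nr [11, 13] (NotCT.Orders.suz h) (fun r hr hd hR => nr_suz h hr hd hR) (by simp))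
  · exact F.not_few (few_nr [17] (NotCT.Orders.he h) (fun r hr hd hR => nr_he h hr hd hR) (by simp))
  · exact F.not_few (few_nr [29] (NotCT.Orders.ru h) (fun r hr hd hR => nr_ru h hr hd hR) (by simp))
  · exact F.kill_nr (NotCT.Orders.on h) [11, 19, 31] (11 * 19 * 31) (460815505920 / (11 * 19 * 31)) (by norm_num)
      (by decide +kernel) (fun r hr hd hR => nr_on h hr hd hR) (by norm_num) (by norm_num)
  · exact F.kill_nr (NotCT.Orders.ly h) [31, 37, 67] (31 * 37 * 67) (51765179004000000 / (31 * 37 * 67)) (by norm_num)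
      (by decide +kernel) (fun r hr hd hR => nr_ly h hr hd hR) (by norm_num) (by norm_num)
  · exact F.not_few (few_nr [13] (NotCT.Orders.fi22 h) (fun r hr hd hR => nr_fi22 h hr hd hR) (by simp))
  · exact F.not_few (few_nr [17, 23] (NotCT.Orders.fi23 h) (fun r hr hd hR => nr_fi23 h hr hd hR) (by simp))
  · exact F.kill_nr (NotCT.Orders.fi24 h) [17, 23, 29] (17 * 23 * 29) (1255205709190661721292800 / (17 * 23 * 29))
      (by norm_num) (by decide +kernel) (fun r hr hd hR => nr_fi24 h hr hd hR) (by norm_num) (by norm_num)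
  · exact F.not_few (few_nr [19] (NotCT.Orders.hn h) (fun r hr hd hR => nr_hn h hr hd hR) (by simp))
  · exact F.kill_nr (NotCT.Orders.th h) [13, 19, 31] (13 * 19 * 31) (90745943887872000 / (13 * 19 * 31))
      (by norm_num) (by decide +kernel) (fun r hr hd hR => nr_th h hr hd hR) (by norm_num) (by norm_num)
  · exact F.not_few (few_nr [31, 47] (NotCT.Orders.b h) (fun r hr hd hR => nr_b h hr hd hR) (by simp))
  · exact F.kill_nr (NotCT.Orders.m h) [29, 41, 59, 71] (29 * 41 * 59 * 71)
      (808017424794512875886459904961710757005754368000000000 / (29 * 41 * 59 * 71)) (by norm_num) (by decide +kernel)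
      (fun r hr hd hR => nr_m h hr hd hR) (by norm_num) (by norm_num)

/-! ### alternating groups -/

theorem Four.alternating (F : Four G a b c) (h : Cfsg.IsAlternating G) : False := by
  obtain ⟨n, hn, ⟨e⟩⟩ := h
  have F' := F.congr e
  have key : ∀ r : ℕ, r.Prime → r ∣ a * b * c → ∃ k, r = 2 * k + 1 ∧ r ≤ n ∧ n < r + 4 := by
    intro r hr hd
    have hr2 : r ≠ 2 := by
      rintro rfl
      exact F'.not_conn hr hd (Conn.refl _)
    obtain ⟨k, hk⟩ := hr.odd_of_ne_two hr2
    refine ⟨k, hk, ?_, ?_⟩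
    · have h1 : r ∣ n.factorial := by
        have h2 : Nat.card (alternatingGroup (Fin n)) ∣ Nat.card (Equiv.Perm (Fin n)) :=
          Subgroup.card_subgroup_dvd_card _
        rw [Nat.card_eq_fintype_card (α := Equiv.Perm (Fin n)), Fintype.card_perm, Fintype.card_fin] at h2
        exact (hd.trans F'.dvd).trans h2
      exact (Nat.Prime.dvd_factorial hr).1 h1
    · by_contra hlt
      exact F'.not_conn hr hd (conn_alt hr hr2 (by omega))
  obtain ⟨p, q, r, hp, hq, hr, hpa, hqb, hrc, h1, h3, h4⟩ := F.exists_primes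
  obtain ⟨i, hi, hi1, hi2⟩ := key p hp ((hpa.mul_right b).mul_right c)
  obtain ⟨j, hj, hj1, hj2⟩ := key q hq ((hqb.mul_left a).mul_right c)
  obtain ⟨k, hk, hk1, hk2⟩ := key r hr (hrc.mul_left _)
  omega

/-! ### linear groups -/

theorem Four.psl (F : Four G a b c) (h : Cfsg.IsPSL G) : False := by
  obtain ⟨K, _, _, n, hn, h4, ⟨e⟩⟩ := h
  have F' := F.congr e
  rcases Nat.lt_or_ge n 3 with h3 | h3
  · obtain rfl : n = 2 := by omega
    exact F'.not_few (few_psl_two (h4 rfl))
  · by_cases hex : n = 3 ∧ (Nat.card K = 2 ∨ Nat.card K = 4)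
    · obtain ⟨rfl, hex⟩ := hex
      have h2c : ∀ {M : ℕ} (m : ℕ), Nat.card (Matrix.ProjectiveSpecialLinearGroup (Fin 3) K) = M * 2 ^ m →
          a * b * c ∣ M := by
        intro M m hM
        refine F'.dvd_left (K := 2 ^ m) (by rw [hM]) fun p hp hpK _ => ?_
        rw [(Nat.prime_dvd_prime_iff_eq hp Nat.prime_two).1 (hp.dvd_of_dvd_pow hpK)]
        exact Conn.refl _
      rcases hex with h | h
      · have hF : Fintype.card K = 2 := by rw [← Nat.card_eq_fintype_card, h]
        have hc : Nat.card (Matrix.ProjectiveSpecialLinearGroup (Fin 3) K) = 168 := by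
          have h1 := Cfsg.Agent.S0243.result hF 3 (by norm_num)
          rw [Fin.prod_univ_three] at h1
          norm_num at h1
          omega
        exact F'.kill_special hc (h2c (M := 21) 3 (by rw [hc]; norm_num)) (by simp)
      · have hF : Fintype.card K = 4 := by rw [← Nat.card_eq_fintype_card, h]
        have hc : Nat.card (Matrix.ProjectiveSpecialLinearGroup (Fin 3) K) = 20160 := by
          have h1 := Cfsg.Agent.S0243.result hF 3 (by norm_num)
          rw [Fin.prod_univ_three] at h1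
          norm_num at h1
          omega
        exact F'.kill_special hc (h2c (M := 315) 6 (by rw [hc]; norm_num)) (by simp)
    · refine F'.not_few (Few.mono (n := 3) (by norm_num) (few_of_two le_rfl fun r s hr hs hr2 hs2 hrd hsd => ?_))
      rcases H371.Psl.three h3 hr hs hr2 hs2 hrd hsd with h | h | h | h
      · exact Or.inl (conn_of h)
      · exact Or.inr (Or.inl (conn_of h))
      · exact Or.inr (Or.inr (conn_of h))
      · exact absurd h hex

end Cfsg.Agent.H319.FourComp
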