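import Cfsg.Agent.H319.KillBase
import Cfsg.Agent.TypeM.FactsMcL
import Cfsg.Agent.GH.AltOut

/-!
# `McL`, `Ly`: centralizers of involutions are not solvable (helper319)
-/

set_option autoImplicit false

open Cfsg Subgroup

namespace Cfsg.Agent.H319.Kill

theorem not_solvable_mt {n : ℕ} (hn : 5 ≤ n) {G : Type*} [Group G] (L : Cfsg.Agent.TypeM.Two.MT n G) {t : G}
    (ht : orderOf t = 2) : ¬ Group.IsSolvable ↥(centralizer ({t} : Set G)) := by
  obtain ⟨g, hg⟩ := L.one t (by rw [← pow_two, ← ht, pow_orderOf_eq_one]) (by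
    intro h1; rw [h1, orderOf_one] at ht; omega)
  refine not_solvable_conj hg (not_solvable_of_map hn L.K.π ?_)
  rw [L.K.range_eq]

theorem mcl {G : Type*} [Group G] (h : Spor.IsoMcL G) {t : G} (ht : orderOf t = 2) :
    ¬ Group.IsSolvable ↥(centralizer ({t} : Set G)) := by
  obtain ⟨-, -, -, ⟨L⟩⟩ := Cfsg.Agent.TypeM.FactsMcL.facts h
  exact not_solvable_mt (by norm_num) L ht

theorem ly {G : Type*} [Group G] (h : Spor.IsoLy G) {t : G} (ht : orderOf t = 2) :
    ¬ Group.IsSolvable ↥(centralizer ({t} : Set G)) := by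
  obtain ⟨-, -, -, ⟨L⟩⟩ := Cfsg.Agent.TypeM.FactsLy.facts h
  exact not_solvable_mt (by norm_num) L ht

/-- `HasAltCover` (from the statement S1738) -/
theorem altCover_of {G : Type*} [Group G] [Finite G] [IsSimpleGroup G] (hna : ¬ IsMulCommutative G)
    (hO : oddCore G = ⊥) (hS : Cfsg.Agent.GH.AltOut.St1738 G) (hA : Cfsg.Agent.GH.Defs.HasAltCover G) {t : G}
    (ht : orderOf t = 2) : ¬ Group.IsSolvable ↥(centralizer ({t} : Set G)) := by
  rcases Cfsg.Agent.GH.AltOut.mcl_or_ly hna hO hS hA with h | h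
  · exact mcl h ht
  · exact ly h ht

end Cfsg.Agent.H319.Kill
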