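import Cfsg.Agent.H319.KillBase
import Cfsg.Agent.KFacts.J2.Facts
import Cfsg.Agent.CpAutJThree.Row

/-!
# `J₂`, `J₃`: centralizers of 2-central involutions are not solvable (helper319)
-/

set_option autoImplicit false

open Cfsg Subgroup Cfsg.Agent.J2Type.Model Cfsg.Agent.J2Type.Base
open scoped Pointwise

namespace Cfsg.Agent.H319.Kill

/-- the permutation part -/
def spσ : SP →* Equiv.Perm (Fin 5) where
  toFun := fun g => g.σ
  map_one' := rfl
  map_mul' := fun _ _ => rfl

theorem not_solvable_model {C : Type*} [Group C] {Q : Subgroup C} {z : C} {v : Fin 5 → C} {ρ : C →* SP}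
    (M : IsModel Q z v ρ) : ¬ Group.IsSolvable C := by
  refine not_solvable_of_map (n := 5) le_rfl (spσ.comp ρ) ?_
  intro τ hτ
  obtain ⟨c, hc⟩ := (M.range ⟨τ, fun _ => 0⟩).2 ⟨Equiv.Perm.mem_alternatingGroup.1 hτ, by simp⟩
  refine ⟨c, ?_⟩
  show (ρ c).σ = τ
  rw [hc]

/-- **`J₃`** -/
theorem j3 {G : Type*} [Group G] (h : Spor.IsoJ3 G) {t : G} (ht : orderOf t = 2) :
    ¬ Group.IsSolvable ↥(centralizer ({t} : Set G)) := by
  obtain ⟨-, -, Q, v, ρ, M⟩ := (Cfsg.Agent.CpAutJThree.base h).2.1 t ht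
  exact not_solvable_model M

/-- **`J₂`** -/
theorem j2 {G : Type*} [Group G] [Finite G] (h : Spor.IsoJ2 G) {x : G} (hx : IsTwoCentralInvolution x) :
    ¬ Group.IsSolvable ↥(centralizer ({x} : Set G)) := by
  have : Fact (Nat.Prime 2) := ⟨Nat.prime_two⟩
  obtain ⟨t, u, Q, v, ρ, D⟩ := Cfsg.Agent.KFacts.J2.Facts.exists_dat_of h
  have hcard := D.card
  obtain ⟨hx2, P, hxP, hxc⟩ := hx
  rcases D.F.cover x hx2 with hc | hc
  · obtain ⟨g, hg⟩ := isConj_iff.1 hc
    exact not_solvable_conj hg (not_solvable_model D.M)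
  · exfalso
    -- a Sylow subgroup centralizing `t`
    obtain ⟨R⟩ := (inferInstance : Nonempty (Sylow 2 ↥(centralizer ({t} : Set G))))
    have hfac : (604800 : ℕ).factorization 2 = 7 := by
      rw [show (604800 : ℕ) = 2 ^ 7 * 4725 by norm_num, Nat.factorization_mul (by norm_num) (by norm_num),
        Nat.Prime.factorization_pow Nat.prime_two]
      simp only [Finsupp.coe_add, Pi.add_apply, Finsupp.single_eq_same]
      rw [Nat.factorization_eq_zero_of_not_dvd (by norm_num)]
    have hfac' : (1920 : ℕ).factorization 2 = 7 := by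
      rw [show (1920 : ℕ) = 2 ^ 7 * 15 by norm_num, Nat.factorization_mul (by norm_num) (by norm_num),
        Nat.Prime.factorization_pow Nat.prime_two]
      simp only [Finsupp.coe_add, Pi.add_apply, Finsupp.single_eq_same]
      rw [Nat.factorization_eq_zero_of_not_dvd (by norm_num)]
    have hR : Nat.card R = 2 ^ 7 := by
      rw [R.card_eq_multiplicity, D.F.cardC, hfac']
    have hP : Nat.card P = 2 ^ 7 := by
      rw [P.card_eq_multiplicity, hcard, hfac]
    let R' : Subgroup G := (R : Subgroup _).map (centralizer ({t} : Set G)).subtype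
    have hR' : Nat.card R' = 2 ^ 7 := by
      rw [← hR]
      exact Subgroup.card_map_of_injective (Subgroup.subtype_injective _)
    have hR'p : IsPGroup 2 R' := R.isPGroup'.map _
    obtain ⟨S, hS⟩ := hR'p.exists_le_sylow
    have hSc : Nat.card S = 2 ^ 7 := by
      rw [S.card_eq_multiplicity, hcard, hfac]
    have hRS : R' = (S : Subgroup G) := Subgroup.eq_of_le_of_card_ge hS (by rw [hR']; exact hSc.le)
    obtain ⟨g, hg⟩ := MulAction.exists_smul_eq G S P
    -- `g t g⁻¹` is centralized by `P`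
    have htc : ∀ p ∈ P, p * (g * t * g⁻¹) = (g * t * g⁻¹) * p := by
      intro p hp
      have hp' : p ∈ g • S := by rw [hg]; exact hp
      have h1 : g⁻¹ * p * g ∈ (S : Subgroup G) := by
        have hp2 : p ∈ MulAut.conj g • (S : Subgroup G) := hp'
        rw [Subgroup.mem_pointwise_smul_iff_inv_smul_mem] at hp2
        have e : (MulAut.conj g)⁻¹ • p = g⁻¹ * p * g := by
          rw [← map_inv, MulAut.smul_def, MulAut.conj_apply, inv_inv]
        rwa [e] at hp2
      rw [← hRS] at h1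
      obtain ⟨c, -, hc⟩ := h1
      have hct : (c : G) * t = t * c := mem_centralizer_singleton_iff.1 c.2
      have h2 : (c : G) = g⁻¹ * p * g := hc
      rw [h2] at hct
      calc p * (g * t * g⁻¹) = g * (g⁻¹ * p * g * t) * g⁻¹ := by group
        _ = g * (t * (g⁻¹ * p * g)) * g⁻¹ := by rw [hct]
        _ = (g * t * g⁻¹) * p := by group
    have hcomm : (g * t * g⁻¹) * x = x * (g * t * g⁻¹) := (htc x hxP).symm
    obtain ⟨k, hk1, hk2⟩ := D.F.pair (g * t * g⁻¹) x (isConj_iff.2 ⟨g, rfl⟩) hc hcomm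
    have h16 := D.F.cardE
    -- `k⁻¹ P k ≤ C(t) ∩ C(u)`
    have hle : (P : Subgroup G).map (MulAut.conj k⁻¹).toMonoidHom ≤
        centralizer ({t} : Set G) ⊓ centralizer ({u} : Set G) := by
      rintro _ ⟨p, hp, rfl⟩
      have h1 := htc p hp
      have h2 := hxc p hp
      rw [← hk1] at h1
      rw [← hk2] at h2
      constructor
      · refine mem_centralizer_singleton_iff.2 ?_
        show k⁻¹ * p * k⁻¹⁻¹ * t = t * (k⁻¹ * p * k⁻¹⁻¹)
        calc k⁻¹ * p * k⁻¹⁻¹ * t = k⁻¹ * (p * (k * t * k⁻¹)) * k := by group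
          _ = k⁻¹ * ((k * t * k⁻¹) * p) * k := by rw [h1]
          _ = t * (k⁻¹ * p * k⁻¹⁻¹) := by group
      · refine mem_centralizer_singleton_iff.2 ?_
        show k⁻¹ * p * k⁻¹⁻¹ * u = u * (k⁻¹ * p * k⁻¹⁻¹)
        calc k⁻¹ * p * k⁻¹⁻¹ * u = k⁻¹ * (p * (k * u * k⁻¹)) * k := by group
          _ = k⁻¹ * ((k * u * k⁻¹) * p) * k := by rw [h2]
          _ = u * (k⁻¹ * p * k⁻¹⁻¹) := by group
    have h3 := Subgroup.card_le_of_le hle
    rw [h16, Subgroup.card_map_of_injective (MulAut.conj k⁻¹).injective] at h3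
    have h4 : Nat.card (P : Subgroup G) = 2 ^ 7 := hP
    rw [h4] at h3
    norm_num at h3

end Cfsg.Agent.H319.Kill
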