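import Cfsg.Agent.OddHalf.D6.QThree.U43Elt
import Cfsg.Agent.OddHalf.NI3.Bad.PSUFour
import Cfsg.Agent.GH.Cov.FourSL
import Cfsg.Agent.ClassicalGeometry.AutPSL.Root
import Cfsg.Agent.OddHalf.Small.U43

/-!
# S3237: `9` divides the orders of the centralizers of the involutions of `L₄(3)`, `U₄(3)` (helper319)
-/

set_option autoImplicit false

open Subgroup Matrix

namespace Cfsg.Agent.H319.NineDvd

theorem isPGroup_three {X : Type*} [Group X] {x : X} (h : x ^ 3 = 1) : IsPGroup 3 (zpowers x) := by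
  rintro ⟨y, hy⟩
  obtain ⟨i, rfl⟩ := mem_zpowers_iff.1 hy
  refine ⟨1, Subtype.ext ?_⟩
  change (x ^ i) ^ 3 ^ 1 = 1
  rw [← zpow_natCast, ← _root_.zpow_mul, mul_comm, _root_.zpow_mul, zpow_natCast, pow_one, h, _root_.one_zpow]

theorem nine_dvd {X : Type*} [Group X] [Finite X] (C : Subgroup X) {x y : X} (hx : x ∈ C) (hy : y ∈ C)
    (x3 : x ^ 3 = 1) (y3 : y ^ 3 = 1) (hxy : x * y = y * x) (hx1 : x ≠ 1) (hyx : y ∉ zpowers x) :
    9 ∣ Nat.card C := by
  have hp3 : Fact (Nat.Prime 3) := ⟨Nat.prime_three⟩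
  have hK : IsPGroup 3 (zpowers x ⊔ zpowers y : Subgroup X) := by
    refine (isPGroup_three x3).to_sup_of_normal_right' (isPGroup_three y3) ?_
    rw [zpowers_le, mem_normalizer_iff]
    intro n
    constructor
    · intro hn
      obtain ⟨i, rfl⟩ := mem_zpowers_iff.1 hn
      have h1 : x * y ^ i * x⁻¹ = y ^ i := by
        rw [(show Commute x y from hxy).zpow_right i |>.eq]; group
      rw [h1]; exact hn
    · intro hn
      obtain ⟨i, hi⟩ := mem_zpowers_iff.1 hn
      have h1 : n = y ^ i := by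
        have h2 : n = x⁻¹ * y ^ i * x := by rw [hi]; group
        rw [h2, ((show Commute x y from hxy).inv_left.zpow_right i).eq]; group
      rw [h1]; exact zpow_mem_zpowers y i
  have hKC : (zpowers x ⊔ zpowers y : Subgroup X) ≤ C :=
    sup_le (zpowers_le.2 hx) (zpowers_le.2 hy)
  obtain ⟨n, hn⟩ := IsPGroup.iff_card.1 hK
  have hx3 : Nat.card (zpowers x) = 3 := by
    rw [Nat.card_zpowers]
    exact orderOf_eq_prime x3 hx1
  have hlt : Nat.card (zpowers x) < Nat.card (zpowers x ⊔ zpowers y : Subgroup X) := by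
    refine lt_of_le_of_ne (Subgroup.card_le_of_le le_sup_left) fun he => ?_
    have h1 : zpowers x = (zpowers x ⊔ zpowers y : Subgroup X) :=
      Subgroup.eq_of_le_of_card_ge le_sup_left he.ge
    apply hyx
    rw [h1]
    exact mem_sup_right (mem_zpowers y)
  rw [hx3, hn] at hlt
  have hn2 : 2 ≤ n := by
    by_contra h
    have : 3 ^ n ≤ 3 ^ 1 := Nat.pow_le_pow_right (by norm_num) (by omega)
    omega
  refine Dvd.dvd.trans ?_ (Subgroup.card_dvd_of_le hKC)
  rw [hn, show (9 : ℕ) = 3 ^ 2 by norm_num]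
  exact pow_dvd_pow 3 hn2

theorem not_mem_zpowers {X : Type*} [Group X] {x y w : X} (hx : x * w = w * x) (hy : y * w ≠ w * y) :
    y ∉ zpowers x := by
  intro h
  obtain ⟨i, rfl⟩ := mem_zpowers_iff.1 h
  exact hy ((show Commute x w from hx).zpow_left i).eq

theorem conj_card {X : Type*} [Group X] {t t' g : X} (h : g * t * g⁻¹ = t') :
    Nat.card (centralizer ({t} : Set X)) = Nat.card (centralizer ({t'} : Set X)) := by
  have h1 : (centralizer ({t} : Set X)).map (MulAut.conj g).toMonoidHom = centralizer ({t'} : Set X) := by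
    ext x
    constructor
    · rintro ⟨y, hy, rfl⟩
      have hy' := mem_centralizer_singleton_iff.1 hy
      rw [mem_centralizer_singleton_iff, ← h]
      change g * y * g⁻¹ * (g * t * g⁻¹) = g * t * g⁻¹ * (g * y * g⁻¹)
      calc g * y * g⁻¹ * (g * t * g⁻¹) = g * (y * t) * g⁻¹ := by group
        _ = g * t * g⁻¹ * (g * y * g⁻¹) := by rw [hy']; group
    · intro hx
      have hx' := mem_centralizer_singleton_iff.1 hx
      refine ⟨g⁻¹ * x * g, ?_, ?_⟩
      · change g⁻¹ * x * g ∈ centralizer ({t} : Set X)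
        have h2 : t = g⁻¹ * t' * g := by rw [← h]; group
        rw [mem_centralizer_singleton_iff, h2]
        calc g⁻¹ * x * g * (g⁻¹ * t' * g) = g⁻¹ * (x * t') * g := by group
          _ = g⁻¹ * t' * g * (g⁻¹ * x * g) := by rw [hx']; group
      · change g * (g⁻¹ * x * g) * g⁻¹ = x
        group
  rw [← h1, Subgroup.card_map_of_injective (MulEquiv.injective _)]

section U43

open Cfsg.Agent.OddHalf.Small.U43Mat Cfsg.Agent.OddHalf.Small.U43Good Cfsg.Agent.OddHalf.D6.QThree.U43Elt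
open Cfsg.Agent.LieClassical.HermSiegel Cfsg.Agent.LieClassical.SUBasic
open Cfsg.Agent.ClassicalGeometry.UnitAutBasic (pr pr_surjective)

variable {F : Type*} [Field F]

theorem x_cube [CharP F 3] {a : F} (ha : a ^ 2 = -1) : (xx1 a ha * (xx1 a ha * xx1 a ha) : Cfsg.SU 4 F 3) = 1 := by
  have h3 : (3 : F) = 0 := three
  apply mat_injective
  rw [mat_mul, mat_mul, m_x1, mat_one]
  ext i j
  fin_cases i <;> fin_cases j <;> simp
  · linear_combination (2 * a + 6) * ha - 3 * h3
  · linear_combination (2 * a + 2) * ha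
  · linear_combination (2 * a - 2) * ha
  · linear_combination (-2 * a + 6) * ha - 3 * h3

theorem x_cube2 [CharP F 3] {a : F} (ha : a ^ 2 = -1) : (xx2 a ha * (xx2 a ha * xx2 a ha) : Cfsg.SU 4 F 3) = 1 := by
  have h3 : (3 : F) = 0 := three
  apply mat_injective
  rw [mat_mul, mat_mul, m_x2, mat_one]
  ext i j
  fin_cases i <;> fin_cases j <;> simp
  · linear_combination (2 * a + 6) * ha - 3 * h3
  · linear_combination (2 * a + 2) * ha
  · linear_combination (2 * a - 2) * ha
  · linear_combination (-2 * a + 6) * ha - 3 * h3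

theorem x_comm [CharP F 3] {a : F} (ha : a ^ 2 = -1) : (xx1 a ha * xx2 a ha : Cfsg.SU 4 F 3) = xx2 a ha * xx1 a ha := by
  apply mat_injective
  rw [mat_mul, mat_mul, m_x1, m_x2]
  ext i j
  fin_cases i <;> fin_cases j <;> simp

theorem exists_a [Fintype F] (hF : Fintype.card F = 9) : ∃ a : F, a ^ 2 = -1 := by
  have h2 : (2 : F) ≠ 0 := OddHalf.NI3.Bad.PSUFour.two_ne (by rw [hF]; norm_num)
  have hch : ringChar F ≠ 2 := by
    intro h9
    apply h2
    have := ringChar.Nat.cast_ringChar (R := F)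
    rw [h9] at this
    exact_mod_cast this
  have h8 : (-1 : F) ^ (Fintype.card F / 2) = 1 := by
    rw [hF]; norm_num
  obtain ⟨y, hy⟩ := (FiniteField.isSquare_iff hch (neg_ne_zero.2 one_ne_zero)).2 h8
  exact ⟨y, by rw [pow_two]; exact hy.symm⟩

/-- **`U₄(3)`** -/
theorem u43 [Fintype F] (hF : Fintype.card F = 9) (t : Cfsg.PSU 4 F 3) (ht : orderOf t = 2) :
    9 ∣ Nat.card (centralizer ({t} : Set (Cfsg.PSU 4 F 3))) := by
  have h9 : Fintype.card F = 3 ^ 2 := by rw [hF]; norm_num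
  have : Fact (Nat.Prime 3) := ⟨Nat.prime_three⟩
  have : CharP F 3 := charP_of_card_eq_prime_pow h9
  obtain ⟨a, ha⟩ := exists_a hF
  obtain ⟨r, hr⟩ := OddHalf.NI3.Bad.PSUFour.isConj h9 ht (OddHalf.Small.U43.orderOf_d hF)
  rw [conj_card hr]
  refine nine_dvd _ (x := pr 4 F 3 (xx1 a ha)) (y := pr 4 F 3 (xx2 a ha)) ?_ ?_ ?_ ?_ ?_ ?_ ?_
  · rw [mem_centralizer_singleton_iff, ← map_mul, ← map_mul, e_x1d]
  · rw [mem_centralizer_singleton_iff, ← map_mul, ← map_mul, e_x2d]
  · rw [← map_pow, show xx1 a ha ^ 3 = xx1 a ha * (xx1 a ha * xx1 a ha) by rw [pow_succ', pow_two], x_cube, map_one]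
  · rw [← map_pow, show xx2 a ha ^ 3 = xx2 a ha * (xx2 a ha * xx2 a ha) by rw [pow_succ', pow_two], x_cube2, map_one]
  · rw [← map_mul, ← map_mul, x_comm]
  · intro h
    have h1 : pr 4 F 3 (i1 a ha) = pr 4 F 3 j1 := by
      have h2 := congrArg (pr 4 F 3) (e_x1i (F := F) ha)
      rwa [map_mul, map_mul, h, one_mul, mul_one] at h2
    obtain ⟨c, -, hc⟩ := mat_of_pr_eq hF h1
    rw [m_i1, m_j1] at hc
    have h2 := congrFun (congrFun hc 0) 1
    simp at h2
  · apply not_mem_zpowers (w := pr 4 F 3 (i2 a ha))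
    · rw [← map_mul, ← map_mul, e_x1k]
    · intro h
      rw [← map_mul, e_x2k, map_mul] at h
      have h1 : pr 4 F 3 (i2 a ha) = pr 4 F 3 j2 := (mul_right_cancel h).symm
      obtain ⟨c, -, hc⟩ := mat_of_pr_eq hF h1
      rw [m_i2, m_j2] at hc
      have h2 := congrFun (congrFun hc 2) 3
      simp at h2

end U43

end Cfsg.Agent.H319.NineDvd
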