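import Cfsg.Agent.H319.NineDvd

/-!
# S3237: `9` divides the orders of the centralizers of the involutions of `L₄(3)` (helper319)
-/

set_option autoImplicit false

open Subgroup Matrix

namespace Cfsg.Agent.H319.NineDvd

open Cfsg.Agent.GH.Cov.FourSL Cfsg.Agent.ClassicalGeometry.AutPSL

variable {F : Type*} [Field F]

/-- a unipotent -/
def U (F : Type*) [Field F] : Matrix (Fin 2) (Fin 2) F := !![1, 1; 0, 1]

theorem U_cube (h3 : (3 : F) = 0) : U F * (U F * U F) = 1 := by
  unfold U
  ext i j
  fin_cases i <;> fin_cases j <;> simp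
  linear_combination h3

theorem U_det : (U F).det = 1 := by
  unfold U
  simp

theorem U_R2 : U F * R2 F ≠ R2 F * U F := by
  unfold U R2
  intro h
  have := congrFun (congrFun h 0) 0
  simp at this

theorem R2_det : (R2 F).det = 1 := by
  unfold R2
  simp

theorem fb_det (a b d : Matrix (Fin 2) (Fin 2) F) : (fb a b 0 d).det = a.det * d.det := by
  unfold fb
  rw [Matrix.det_submatrix_equiv_self, Matrix.det_fromBlocks_zero₂₁]

/-- the element of `SL` -/
def sl (M : Matrix (Fin 4) (Fin 4) F) (h : M.det = 1) : Matrix.SpecialLinearGroup (Fin 4) F := ⟨M, h⟩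

theorem core {M : Matrix (Fin 4) (Fin 4) F} (hM : M.det = 1) {X Y W : Matrix (Fin 4) (Fin 4) F} (hX : X.det = 1)
    (hY : Y.det = 1) (hW : W.det = 1) (h1 : X * M = M * X) (h2 : Y * M = M * Y) (h3 : X * (X * X) = 1)
    (h4 : Y * (Y * Y) = 1) (h5 : X * Y = Y * X) (h6 : ∀ c : F, X ≠ c • (1 : Matrix (Fin 4) (Fin 4) F))
    (h7 : X * W = W * X) (h8 : ∀ c : F, W * Y ≠ c • (Y * W)) [Finite F] :
    9 ∣ Nat.card (centralizer ({Root.pr (sl M hM)} : Set (Matrix.ProjectiveSpecialLinearGroup (Fin 4) F))) := by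
  have hf : Finite (Matrix.ProjectiveSpecialLinearGroup (Fin 4) F) := inferInstance
  refine nine_dvd _ (x := Root.pr (sl X hX)) (y := Root.pr (sl Y hY)) ?_ ?_ ?_ ?_ ?_ ?_ ?_
  · rw [mem_centralizer_singleton_iff, ← map_mul, ← map_mul]
    exact congrArg _ (Subtype.ext h1)
  · rw [mem_centralizer_singleton_iff, ← map_mul, ← map_mul]
    exact congrArg _ (Subtype.ext h2)
  · rw [← map_pow, show sl X hX ^ 3 = 1 by rw [pow_succ', pow_two]; exact Subtype.ext h3, map_one]
  · rw [← map_pow, show sl Y hY ^ 3 = 1 by rw [pow_succ', pow_two]; exact Subtype.ext h4, map_one]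
  · rw [← map_mul, ← map_mul]
    exact congrArg _ (Subtype.ext h5)
  · intro h
    have h9 : Root.pr (1 : Matrix.SpecialLinearGroup (Fin 4) F) = Root.pr (sl X hX) := by rw [h, map_one]
    obtain ⟨c, hc⟩ := Root.exists_smul_of_pr_eq h9
    exact h6 c hc
  · apply not_mem_zpowers (w := Root.pr (sl W hW))
    · rw [← map_mul, ← map_mul]
      exact congrArg _ (Subtype.ext h7)
    · intro h
      rw [← map_mul, ← map_mul] at h
      obtain ⟨c, hc⟩ := Root.exists_smul_of_pr_eq h
      exact h8 c hc

theorem smul_one_eq {c : F} {M : Matrix (Fin 2) (Fin 2) F} (h : M 0 0 = 1) (h1 : M = c • M) : c = 1 := by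
  have := congrFun (congrFun h1 0) 0
  rw [Matrix.smul_apply, h, smul_eq_mul, mul_one] at this
  exact this.symm

/-- **`L₄(3)`** -/
theorem l43 [Fintype F] (hF : Fintype.card F = 3) (t : Matrix.ProjectiveSpecialLinearGroup (Fin 4) F)
    (ht : orderOf t = 2) :
    9 ∣ Nat.card (centralizer ({t} : Set (Matrix.ProjectiveSpecialLinearGroup (Fin 4) F))) := by
  have : Fact (Nat.Prime 3) := ⟨Nat.prime_three⟩
  have : CharP F 3 := charP_of_card_eq_prime_pow (p := 3) (f := 1) (by rw [hF, pow_one])
  have h3 : (3 : F) = 0 := by exact_mod_cast CharP.cast_eq_zero F 3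
  have h2 : (2 : F) ≠ 0 := by
    intro h
    have : (1 : F) = 0 := by linear_combination h3 - h
    exact one_ne_zero this
  have hcube : ∀ x : F, x ^ 3 = x := fun x => by
    have := FiniteField.pow_card x
    rwa [hF] at this
  have hval : ∀ x : F, x = 0 ∨ x = 1 ∨ x = -1 := by
    intro x
    have h := hcube x
    have h1 : x * ((x - 1) * (x + 1)) = 0 := by linear_combination h
    rcases mul_eq_zero.1 h1 with h1 | h1
    · exact Or.inl h1
    · rcases mul_eq_zero.1 h1 with h1 | h1
      · exact Or.inr (Or.inl (by linear_combination h1))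
      · exact Or.inr (Or.inr (by linear_combination h1))
  have hsq : ∀ x : F, x * x ≠ -1 := by
    intro x hx
    rcases hval x with rfl | rfl | rfl
    · have : (1 : F) = 0 := by linear_combination hx
      exact one_ne_zero this
    · exact h2 (by linear_combination hx)
    · exact h2 (by linear_combination hx)
  obtain ⟨T, rfl⟩ := Root.pr_surjective t
  have hTT : Root.pr (T * T) = 1 := by
    rw [map_mul, ← pow_two, ← ht, pow_orderOf_eq_one]
  have ht1 : Root.pr T ≠ 1 := by
    intro h
    rw [h, orderOf_one] at ht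
    omega
  obtain ⟨c, hc⟩ := Root.exists_smul_of_pr_eq (x := 1) (y := T * T) (by rw [hTT, map_one])
  have hc' : (T : Matrix (Fin 4) (Fin 4) F) * (T : Matrix (Fin 4) (Fin 4) F) = c • (1 : Matrix (Fin 4) (Fin 4) F) := hc
  have hTdet : (T : Matrix (Fin 4) (Fin 4) F).det = 1 := T.2
  -- conjugation
  have key : ∀ (M P : Matrix (Fin 4) (Fin 4) F) (hM : M.det = 1), P.det = 1 →
      (T : Matrix (Fin 4) (Fin 4) F) * P = P * M →
      Nat.card (centralizer ({Root.pr T} : Set (Matrix.ProjectiveSpecialLinearGroup (Fin 4) F))) =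
        Nat.card (centralizer ({Root.pr (sl M hM)} : Set (Matrix.ProjectiveSpecialLinearGroup (Fin 4) F))) := by
    intro M P hM hP h
    refine conj_card (g := (Root.pr (sl P hP))⁻¹) ?_
    rw [inv_inv, ← map_inv, ← map_mul, ← map_mul]
    congr 1
    have h9 : T * sl P hP = sl P hP * sl M hM := Subtype.ext h
    rw [mul_assoc, h9, inv_mul_cancel_left]
  have hU1 : (U F) 0 0 = 1 := rfl
  have hD : ∀ c : F, (1 : Matrix (Fin 2) (Fin 2) F) = c • 1 → c = 1 := fun c hc => smul_one_eq (by simp) hc
  rcases hval c with rfl | rfl | rfl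
  · exfalso
    rw [zero_smul] at hc'
    have h9 := congrArg Matrix.det hc'
    rw [Matrix.det_mul, hTdet, Matrix.det_zero] at h9
    simp at h9
  · rw [one_smul] at hc'
    have hne : (T : Matrix (Fin 4) (Fin 4) F) ≠ 1 := by
      intro h
      apply ht1
      have : T = 1 := Subtype.ext h
      rw [this, map_one]
    have hne' : (T : Matrix (Fin 4) (Fin 4) F) ≠ -1 := by
      intro h
      apply ht1
      rw [← map_one Root.pr]
      refine (Root.pr_eq_of_smul (c := -1) ?_).symm
      rw [h]
      simp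
    obtain ⟨P, hP, h⟩ := exists_conj_one h2 hc' hTdet hne hne'
    have hM : (D F).det = 1 := by
      unfold D
      rw [blk_det, Matrix.det_one, one_mul, Matrix.det_neg, Matrix.det_one]
      simp
    rw [key _ P hM hP h]
    refine core hM (X := blk (U F) 1) (Y := blk 1 (U F)) (W := blk 1 (R2 F)) ?_ ?_ ?_ ?_ ?_ ?_ ?_ ?_ ?_ ?_ ?_
    · rw [blk_det, U_det, Matrix.det_one, one_mul]
    · rw [blk_det, U_det, Matrix.det_one, one_mul]
    · rw [blk_det, R2_det, Matrix.det_one, one_mul]
    · unfold D
      rw [blk_mul, blk_mul, mul_one, one_mul, one_mul, mul_one]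
    · unfold D
      rw [blk_mul, blk_mul, mul_neg, neg_mul, mul_one, one_mul, mul_one]
    · rw [blk_mul, blk_mul, U_cube h3, one_mul, one_mul, blk_one]
    · rw [blk_mul, blk_mul, U_cube h3, one_mul, one_mul, blk_one]
    · rw [blk_mul, blk_mul, one_mul, mul_one]
    · intro c hc
      rw [← blk_one] at hc
      unfold blk at hc
      rw [fb_smul] at hc
      obtain ⟨h9, -, -, -⟩ := fb_inj hc
      have := congrFun (congrFun h9 0) 1
      unfold U at this
      simp at this
    · rw [blk_mul, blk_mul, one_mul, mul_one, one_mul, mul_one]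
    · intro c hc
      rw [blk_mul, blk_mul] at hc
      unfold blk at hc
      rw [fb_smul] at hc
      obtain ⟨h9, -, -, h10⟩ := fb_inj hc
      rw [mul_one] at h9
      rw [hD c h9, one_smul] at h10
      exact U_R2 h10.symm
  · have hneg : (T : Matrix (Fin 4) (Fin 4) F) * (T : Matrix (Fin 4) (Fin 4) F) = -1 := by
      rw [hc']
      simp
    obtain ⟨P, hP, h⟩ := exists_conj_neg (by rw [hF]; decide) hsq hneg
    have hM : (blk (R2 F) (R2 F)).det = 1 := by
      rw [blk_det, R2_det, one_mul]
    rw [key _ P hM hP h]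
    have hx3 : ∀ a : Matrix (Fin 2) (Fin 2) F, fb 1 a 0 1 * (fb 1 a 0 1 * fb 1 a 0 1) = 1 := by
      intro a
      rw [fb_mul, fb_mul, ← blk_one]
      unfold blk
      congr 1
      · simp
      · ext i j
        simp
        linear_combination (a i j) * h3
      · simp
      · simp
    refine core hM (X := fb 1 1 0 1) (Y := fb 1 (R2 F) 0 1) (W := blk (U F) (U F)) ?_ ?_ ?_ ?_ ?_ ?_ ?_ ?_ ?_ ?_ ?_
    · rw [fb_det, Matrix.det_one, one_mul]
    · rw [fb_det, Matrix.det_one, one_mul]
    · rw [blk_det, U_det, one_mul]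
    · unfold blk
      rw [fb_mul, fb_mul]
      simp
    · unfold blk
      rw [fb_mul, fb_mul]
      simp
    · exact hx3 _
    · exact hx3 _
    · rw [fb_mul, fb_mul]
      simp [add_comm]
    · intro c hc
      rw [← blk_one] at hc
      unfold blk at hc
      rw [fb_smul] at hc
      obtain ⟨-, h9, -, -⟩ := fb_inj hc
      rw [smul_zero] at h9
      have := congrFun (congrFun h9 0) 0
      simp at this
    · unfold blk
      rw [fb_mul, fb_mul]
      simp
    · intro c hc
      unfold blk at hc
      rw [fb_mul, fb_mul, fb_smul] at hc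
      obtain ⟨h9, h10, -, -⟩ := fb_inj hc
      simp only [mul_one, one_mul, mul_zero, add_zero, zero_add] at h9 h10
      rw [smul_one_eq hU1 h9, one_smul] at h10
      exact U_R2 h10

end Cfsg.Agent.H319.NineDvd
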