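import Cfsg.Agent.H319.RedH
import Cfsg.Agent.S0501
import Cfsg.Agent.TwoFusion.SectionalRank

/-!
# S3237: the sectional 2-rank is at most 4 (helper319)
-/

set_option autoImplicit false

open Subgroup Cfsg.Agent.Co2Type.Quad

namespace Cfsg.Agent.H319

variable {G : Type*} [Group G] {Q : Subgroup G} {z : G} {π : ↥(centralizer ({z} : Set G)) →* S4}

/-- elementary abelian subgroups of `Q` have order at most 4 -/
theorem Conf.card_elem [Finite G] (C : Conf Q z π) {A : Subgroup G} (hA : A ≤ Q) (h2 : ∀ a ∈ A, a * a = 1) :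
    Nat.card A ≤ 4 := by
  have hp2 : Fact (Nat.Prime 2) := ⟨Nat.prime_two⟩
  by_contra hcon
  have hp : IsPGroup 2 A := (isPGroup_Q C).to_le hA
  obtain ⟨n, hn⟩ := IsPGroup.iff_card.1 hp
  have hn3 : 3 ≤ n := by
    by_contra h
    have : 2 ^ n ≤ 2 ^ 2 := Nat.pow_le_pow_right (by norm_num) (by omega)
    omega
  obtain ⟨B, hB⟩ := Sylow.exists_subgroup_card_pow_prime (G := A) 2 (n := 3) (by rw [hn]; exact pow_dvd_pow 2 hn3)
  apply C.minus (B.map A.subtype)
  · rintro _ ⟨b, -, rfl⟩
    exact hA b.2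
  · rintro _ ⟨b, -, rfl⟩
    exact h2 b b.2
  · rw [Subgroup.card_map_of_injective A.subtype_injective, hB]; norm_num

/-- a 2-subgroup of `C(z)` containing `Q` has no normal elementary abelian subgroup of order 8 -/
theorem Conf.no_E8 [Finite G] (C : Conf Q z π) {S : Subgroup G} (hS : ∀ s ∈ S, s * z = z * s) (hQS : Q ≤ S)
    {A : Subgroup G} (hAS : A ≤ S) (hn : ∀ s ∈ S, ∀ a ∈ A, s * a * s⁻¹ ∈ A) (h2 : ∀ a ∈ A, a * a = 1) :
    Nat.card A ≤ 4 := by
  classical
  set h := C.large with hh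
  suffices hAQ : A ≤ Q from C.card_elem hAQ h2
  by_contra hAQ
  obtain ⟨a, haA, haQ⟩ := SetLike.not_le_iff_exists.1 hAQ
  have haz : a * z = z * a := hS a (hAS haA)
  -- commutators `[a, y]`
  have hcm : ∀ y ∈ Q, a * y * a⁻¹ * y⁻¹ ∈ A ⊓ Q := by
    intro y hy
    constructor
    · have h1 := hn y (hQS hy) _ (A.inv_mem haA)
      have h3 := A.mul_mem haA h1
      have e : a * (y * a⁻¹ * y⁻¹) = a * y * a⁻¹ * y⁻¹ := by group
      rwa [e] at h3
    · exact Q.mul_mem (h.conj_mem a haz y hy) (Q.inv_mem hy)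
  obtain ⟨y, hy, hyne⟩ : ∃ y ∈ Q, a * y * a⁻¹ * y⁻¹ ≠ 1 := by
    by_contra hcon
    push Not at hcon
    apply haQ
    apply h.self a haz
    intro x hx
    have h1 := hcon x hx
    calc a * x = (a * x * a⁻¹ * x⁻¹) * x * a := by group
      _ = x * a := by rw [h1, one_mul]
  -- `z ∈ A`
  have hzA : z ∈ A := by
    set x := a * y * a⁻¹ * y⁻¹ with hx
    have hxAQ : x ∈ A ⊓ Q := hcm y hy
    by_cases hxz : x = z
    · rw [← hxz]; exact hxAQ.1
    · obtain ⟨y', hy', hne'⟩ : ∃ y' ∈ Q, x * y' ≠ y' * x := by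
        by_contra hcon
        push Not at hcon
        rcases h.cent x hxAQ.2 hcon with h1 | h1
        · exact hyne h1
        · exact hxz h1
      have h1 := (h.comm y' hy' x hxAQ.2).resolve_left (fun e => hne' e.symm)
      have h3 := hn y' (hQS hy') x hxAQ.1
      have h4 := A.mul_mem (A.inv_mem hxAQ.1) h3
      have hxc : Commute x z := h.commz hxAQ.2
      have e : x⁻¹ * (y' * x * y'⁻¹) = z := by
        rw [h1]
        calc x⁻¹ * (x * y' * z * y'⁻¹) = y' * z * y'⁻¹ := by group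
          _ = z := by rw [(h.commz hy').eq]; group
      rwa [e] at h4
  have hc4 : Nat.card (A ⊓ Q : Subgroup G) ≤ 4 := C.card_elem inf_le_right fun a ha => h2 a ha.1
  have := C.finiteQ
  rw [card_WN h hzA] at hc4
  -- `WN` has at most two elements, all singular
  have hsing : ∀ w ∈ WN h A, h.q w = 0 := by
    rintro _ ⟨x, hx, rfl⟩
    rw [h.q_eq_zero]
    exact h2 x hx
  have hone : ∀ w₁ ∈ WN h A, ∀ w₂ ∈ WN h A, w₁ ≠ 0 → w₂ ≠ 0 → w₁ = w₂ := by
    intro w₁ h1 w₂ h3 hw1 hw2
    by_contra hne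
    have h5 : ({0, w₁, w₂} : Finset h.V) ⊆ (Set.toFinite (WN h A : Set h.V)).toFinset := by
      intro w hw
      rw [Set.Finite.mem_toFinset]
      simp only [Finset.mem_insert, Finset.mem_singleton] at hw
      rcases hw with rfl | rfl | rfl
      · exact (WN h A).zero_mem
      · exact h1
      · exact h3
    have h6 := Finset.card_le_card h5
    rw [← Set.ncard_eq_toFinset_card (WN h A : Set h.V), Finset.card_insert_of_notMem,
      Finset.card_insert_of_notMem, Finset.card_singleton] at h6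
    · have h7 : (WN h A : Set h.V).ncard = Nat.card (WN h A) := rfl
      omega
    · simp [hne]
    · simp [Ne.symm hw1, Ne.symm hw2]
  set g : ↥(centralizer ({z} : Set G)) := ⟨a, mem_centralizer_singleton_iff.2 haz⟩ with hg
  have hact : ∀ v, h.act g v + v ∈ WN h A := by
    intro v
    obtain ⟨x, rfl⟩ := h.pr_surjective v
    rw [h.act_pr, ← h.pr_mul]
    have h1 : h.pr (h.conjQ g x * x) = h.pr (h.conjQ g x * x⁻¹) := by
      rw [h.pr_mul, h.pr_mul, h.pr_inv, h.neg_eq]
    rw [h1]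
    exact ⟨_, (hcm x x.2).1, rfl⟩
  have hb : ∀ v, h.act g v ≠ v → ∀ w ∈ WN h A, h.b w v = 0 := by
    intro v hv w hw
    by_cases hw0 : w = 0
    · rw [hw0]; simp
    have h1 : h.act g v + v ≠ 0 := by
      intro h3
      apply hv
      have h4 := congrArg (fun u => u + v) h3
      simpa [add_assoc, h.add_self] using h4
    have h3 : h.act g v + v = w := hone _ (hact v) _ hw h1 hw0
    have h4 : h.act g v = v + w := by
      have h5 := congrArg (fun u => u + v) h3
      simp only [add_assoc, h.add_self, add_zero] at h5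
      rw [h5, add_comm]
    have h5 := h.q_act g v
    rw [h4, h.q_add', hsing w hw] at h5
    rw [h.b_comm]
    have h6 : ∀ s t : ZMod 2, s + 0 + t = s → t = 0 := by decide
    exact h6 _ _ h5
  -- the nonzero `w`
  obtain ⟨w, hw, hw0⟩ : ∃ w ∈ WN h A, w ≠ 0 := by
    by_contra hcon
    push Not at hcon
    apply haQ
    apply h.mem_of_act g
    ext v
    have h1 := hcon _ (hact v)
    have h4 := congrArg (fun u => u + v) h1
    simpa [add_assoc, h.add_self] using h4
  obtain ⟨v₀, hv₀⟩ : ∃ v₀, h.b w v₀ ≠ 0 := by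
    by_contra hcon
    push Not at hcon
    exact hw0 (h.b_nondeg hcon)
  apply haQ
  apply h.mem_of_act g
  ext v
  change h.act g v = v
  have hv0 : h.act g v₀ = v₀ := by
    by_contra hcon
    exact hv₀ (hb v₀ hcon w hw)
  by_contra hcon
  have h1 := hb v hcon w hw
  have h3 : h.act g (v₀ + v) = v₀ + v := by
    by_contra hcon
    have h4 := hb _ hcon w hw
    rw [map_add, h1, add_zero] at h4
    exact hv₀ h4
  rw [map_add, hv0] at h3
  exact hcon (add_left_cancel h3)

/-- the sectional 2-rank of `G` is at most 4 -/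
theorem Conf.sectional [Finite G] (C : Conf Q z π) : Cfsg.SectionalPRankLE 2 4 G := by
  have hp2 : Fact (Nat.Prime 2) := ⟨Nat.prime_two⟩
  obtain ⟨S, hSz, hQS⟩ := C.exists_sylow
  apply TwoFusion.SectionalRank.sectionalPRankLE_of_sylow S
  apply S0501.result S.isPGroup'
  intro A hAn _ hA2
  have h1 : Nat.card (A.map (S : Subgroup G).subtype) ≤ 4 := by
    refine C.no_E8 hSz hQS ?_ ?_ ?_
    · rintro _ ⟨a, -, rfl⟩; exact a.2
    · rintro s hs _ ⟨a, ha, rfl⟩
      exact ⟨_, hAn.conj_mem a ha ⟨s, hs⟩, rfl⟩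
    · rintro _ ⟨a, ha, rfl⟩
      have h3 := hA2 a ha
      rw [pow_two] at h3
      exact congrArg Subtype.val h3
  rwa [Subgroup.card_map_of_injective (S : Subgroup G).subtype_injective] at h1

end Cfsg.Agent.H319
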