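import Cfsg.Agent.H319.RedB
import Cfsg.Agent.Lib.MinNormal
import Cfsg.Agent.Lib.SubnormalJoin

/-!
# S3237, reduction, third part: decompositions of minimal normal subgroups (helper319)
-/

set_option autoImplicit false

open Subgroup Cfsg.Agent.Co2Type.Quad

namespace Cfsg.Agent.H319

variable {G : Type*} [Group G]

/-- `M` is the direct product of the nonabelian simple groups `T i` -/
structure Dec (M : Subgroup G) {m : ℕ} (T : Fin m → Subgroup G) : Prop where
  normal : M.Normal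
  le : ∀ i, T i ≤ M
  simple : ∀ i, IsSimpleGroup (T i)
  norm : ∀ i, M ≤ normalizer (T i : Set G)
  comm : ∀ i j, i ≠ j → ∀ x ∈ T i, ∀ y ∈ T j, x * y = y * x
  inj : Function.Injective T
  sup : ⨆ i, T i = M
  nonab : ∀ i, ¬ ∀ x ∈ T i, ∀ y ∈ T i, x * y = y * x

theorem mem_cj {g x : G} {S : Subgroup G} : x ∈ S.map (MulAut.conj g).toMonoidHom ↔ g⁻¹ * x * g ∈ S := by
  constructor
  · rintro ⟨y, hy, rfl⟩
    have : g⁻¹ * (g * y * g⁻¹) * g = y := by group
    show g⁻¹ * (g * y * g⁻¹) * g ∈ S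
    rw [this]; exact hy
  · intro h
    exact ⟨_, h, by show g * (g⁻¹ * x * g) * g⁻¹ = x; group⟩

theorem simple_cj {S : Subgroup G} (hS : IsSimpleGroup S) (g : G) :
    IsSimpleGroup ↥(S.map (MulAut.conj g).toMonoidHom) := by
  have e := (S.equivMapOfInjective (MulAut.conj g).toMonoidHom (MulAut.conj g).injective)
  have : Nontrivial ↥(S.map (MulAut.conj g).toMonoidHom) := e.symm.toEquiv.nontrivial
  exact IsSimpleGroup.isSimpleGroup_of_surjective e.toMonoidHom e.surjective

/-- a subgroup of a simple subgroup normalized by it -/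
theorem bot_or_eq_of_simple {S A : Subgroup G} (hS : IsSimpleGroup S) (hA : A ≤ S)
    (hn : ∀ s ∈ S, ∀ a ∈ A, s * a * s⁻¹ ∈ A) : A = ⊥ ∨ A = S := by
  have h1 : (A.subgroupOf S).Normal := by
    refine ⟨fun a ha s => ?_⟩
    exact hn s s.2 a ha
  rcases h1.eq_bot_or_eq_top with h | h
  · left
    rw [eq_bot_iff]
    intro a ha
    have h2 : (⟨a, hA ha⟩ : S) ∈ A.subgroupOf S := ha
    rw [h, mem_bot] at h2
    exact congrArg Subtype.val h2
  · right
    refine le_antisymm hA fun s hs => ?_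
    have h2 : (⟨s, hs⟩ : S) ∈ A.subgroupOf S := by rw [h]; exact mem_top _
    exact h2

variable {M : Subgroup G} {m : ℕ} {T : Fin m → Subgroup G}

theorem Dec.cent (D : Dec M T) {i : Fin m} {x : G} (hx : x ∈ T i) (hc : ∀ y ∈ T i, x * y = y * x) : x = 1 := by
  have hs := D.simple i
  rcases bot_or_eq_of_simple (A := T i ⊓ centralizer (T i : Set G)) hs inf_le_left (by
    intro s hs a ha
    refine ⟨(T i).mul_mem ((T i).mul_mem hs ha.1) ((T i).inv_mem hs), mem_centralizer_iff.2 ?_⟩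
    intro y hy
    have h1 := mem_centralizer_iff.1 ha.2 s hs
    have h2 : s * a * s⁻¹ = a := by rw [h1, mul_inv_cancel_right]
    rw [h2]; exact mem_centralizer_iff.1 ha.2 y hy) with h | h
  · have : x ∈ T i ⊓ centralizer (T i : Set G) := ⟨hx, mem_centralizer_iff.2 fun y hy => (hc y hy).symm⟩
    rw [h, mem_bot] at this
    exact this
  · exfalso
    apply D.nonab i
    intro a ha b hb
    have h1 : b ∈ T i ⊓ centralizer (T i : Set G) := by rw [h]; exact hb
    exact mem_centralizer_iff.1 h1.2 a ha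

/-- conjugates of the factors are factors -/
theorem Dec.exists_index (D : Dec M T) (g : G) (i : Fin m) : ∃ j, ∀ x, x ∈ T j ↔ g⁻¹ * x * g ∈ T i := by
  by_contra hcon
  push Not at hcon
  set A : Subgroup G := (T i).map (MulAut.conj g).toMonoidHom with hA
  have hMn := D.normal
  have hAM : A ≤ M := by
    intro x hx
    rw [hA, mem_cj] at hx
    have h1 := hMn.conj_mem _ (D.le i hx) g
    have e : g * (g⁻¹ * x * g) * g⁻¹ = x := by group
    rwa [e] at h1
  have hAs : IsSimpleGroup A := simple_cj (D.simple i) g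
  have hAn : M ≤ normalizer (A : Set G) := Cfsg.Agent.Lib.MinNormal.le_normalizer_map_conj (D.norm i) g
  have hne : ∀ j, A ≠ T j := by
    intro j he
    obtain ⟨x, hx⟩ := hcon j
    rcases hx with ⟨h1, h2⟩ | ⟨h1, h2⟩
    · rw [← he, hA, mem_cj] at h1
      exact h2 h1
    · apply h1
      rw [← he, hA, mem_cj]
      exact h2
  have hdis : ∀ j, A ⊓ T j = ⊥ := by
    intro j
    have hn : ∀ s ∈ M, ∀ a ∈ A ⊓ T j, s * a * s⁻¹ ∈ A ⊓ T j := fun s hs a ha =>
      ⟨(mem_normalizer_iff.1 (hAn hs) a).1 ha.1, (mem_normalizer_iff.1 (D.norm j hs) a).1 ha.2⟩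
    rcases bot_or_eq_of_simple (A := A ⊓ T j) (D.simple j) inf_le_right (fun s hs => hn s (D.le j hs)) with h | h
    · exact h
    · rcases bot_or_eq_of_simple (A := A ⊓ T j) hAs inf_le_left (fun s hs => hn s (hAM hs)) with h' | h'
      · exact h'
      · exact absurd (h'.symm.trans h) (hne j)
  have hcomm : ∀ x ∈ A, ∀ y ∈ M, x * y = y * x := by
    intro x hx
    have h1 : M ≤ centralizer ({x} : Set G) := by
      rw [← D.sup, iSup_le_iff]
      intro j y hy
      rw [mem_centralizer_singleton_iff]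
      exact (Cfsg.Agent.Lib.MinNormal.commute_of_disjoint (hAM.trans (D.norm j)) ((D.le j).trans hAn)
        (disjoint_iff.2 (hdis j)) hx hy).eq.symm
    intro y hy
    exact (mem_centralizer_singleton_iff.1 (h1 hy)).symm
  apply D.nonab i
  intro x hx y hy
  have h1 : g * x * g⁻¹ ∈ A := by
    rw [hA, mem_cj]
    have e : g⁻¹ * (g * x * g⁻¹) * g = x := by group
    rwa [e]
  have h2 : g * y * g⁻¹ ∈ A := by
    rw [hA, mem_cj]
    have e : g⁻¹ * (g * y * g⁻¹) * g = y := by group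
    rwa [e]
  have h3 := hcomm _ h1 _ (hAM h2)
  have h4 : g * (x * y) * g⁻¹ = g * (y * x) * g⁻¹ := by
    calc g * (x * y) * g⁻¹ = (g * x * g⁻¹) * (g * y * g⁻¹) := by group
      _ = (g * y * g⁻¹) * (g * x * g⁻¹) := h3
      _ = g * (y * x) * g⁻¹ := by group
  exact mul_left_cancel (mul_right_cancel h4)

theorem Dec.decomp (D : Dec M T) (i : Fin m) {x : G} (hx : x ∈ M) :
    ∃ a ∈ T i, ∃ b ∈ M, (∀ y ∈ T i, b * y = y * b) ∧ x = a * b := by
  rw [← D.sup] at hx
  induction hx using Subgroup.iSup_induction' with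
  | hp j x hx =>
    by_cases hj : j = i
    · subst hj
      exact ⟨x, hx, 1, M.one_mem, fun y _ => by rw [one_mul, mul_one], (mul_one x).symm⟩
    · exact ⟨1, (T i).one_mem, x, D.le j hx, fun y hy => D.comm j i hj x hx y hy, (one_mul x).symm⟩
  | h1 => exact ⟨1, (T i).one_mem, 1, M.one_mem, fun y _ => by rw [one_mul, mul_one], (mul_one 1).symm⟩
  | hmul x y hx hy h1 h2 =>
    obtain ⟨a, ha, b, hb, hbc, rfl⟩ := h1
    obtain ⟨a', ha', b', hb', hbc', rfl⟩ := h2
    refine ⟨a * a', (T i).mul_mem ha ha', b * b', M.mul_mem hb hb', ?_, ?_⟩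
    · intro y hy
      rw [mul_assoc, hbc' y hy, ← mul_assoc, hbc y hy, mul_assoc]
    · calc a * b * (a' * b') = a * (b * a') * b' := by group
        _ = a * (a' * b) * b' := by rw [hbc a' ha']
        _ = a * a' * (b * b') := by group

theorem Dec.unique (D : Dec M T) (i : Fin m) {a b a' b' : G} (ha : a ∈ T i) (ha' : a' ∈ T i)
    (hb : ∀ y ∈ T i, b * y = y * b) (hb' : ∀ y ∈ T i, b' * y = y * b') (h : a * b = a' * b') :
    a = a' ∧ b = b' := by
  have h1 : a'⁻¹ * a = b' * b⁻¹ := by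
    calc a'⁻¹ * a = a'⁻¹ * (a * b) * b⁻¹ := by group
      _ = a'⁻¹ * (a' * b') * b⁻¹ := by rw [h]
      _ = b' * b⁻¹ := by group
  have hbi : ∀ y ∈ T i, b⁻¹ * y = y * b⁻¹ := fun y hy => by
    have : Commute b y := hb y hy
    exact this.inv_left.eq
  have h2 : a'⁻¹ * a = 1 := by
    apply D.cent ((T i).mul_mem ((T i).inv_mem ha') ha)
    intro y hy
    rw [h1, mul_assoc, hbi y hy, ← mul_assoc, hb' y hy, mul_assoc]
  have h3 : a = a' := (inv_mul_eq_one.1 h2).symm
  subst h3
  exact ⟨rfl, mul_left_cancel h⟩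

end Cfsg.Agent.H319
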