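import Cfsg.Agent.H319.RedC

/-!
# S3237, reduction, fourth part: the minimal normal subgroup is simple (helper319)
-/

set_option autoImplicit false

open Subgroup Cfsg.Agent.Co2Type.Quad

namespace Cfsg.Agent.H319

variable {G : Type*} [Group G] {Q : Subgroup G} {z : G} {π : ↥(centralizer ({z} : Set G)) →* S4}

/-- normal subgroups not containing `z` have odd order -/
theorem Conf.le_core [Finite G] (C : Conf Q z π) {N : Subgroup G} (hN : N.Normal) (hz : z ∉ N) :
    N ≤ Cfsg.oddCore G := by
  obtain ⟨-, hsq⟩ := C.inverts_of_normal hN hz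
  refine Cfsg.Agent.Lib.Cores.le_pPrimeCore hN ?_
  have hsurj : Function.Surjective (fun x : N => x * x) := by
    intro x
    obtain ⟨y, hy, hyy⟩ := hsq x x.2
    exact ⟨⟨y, hy⟩, Subtype.ext hyy⟩
  have hinj := Finite.injective_iff_surjective.2 hsurj
  have h2 : Fact (Nat.Prime 2) := ⟨Nat.prime_two⟩
  rw [Nat.coprime_comm, Nat.Prime.coprime_iff_not_dvd Nat.prime_two]
  intro hd
  obtain ⟨t, ht⟩ := exists_prime_orderOf_dvd_card' (G := N) 2 hd
  have htt : t * t = 1 * 1 := by
    have := pow_orderOf_eq_one t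
    rw [ht, pow_two] at this
    rw [this, one_mul]
  have := hinj htt
  rw [this, orderOf_one] at ht
  omega

/-- a nontrivial abelian normal subgroup: `G` is solvable -/
theorem Conf.solvable_of_comm_normal [Finite G] (C : Conf Q z π) {M : Subgroup G} (hM : M.Normal) (hne : M ≠ ⊥)
    (hab : ∀ x ∈ M, ∀ y ∈ M, x * y = y * x) : Group.IsSolvable G := by
  classical
  by_cases hz : z ∈ M
  swap
  · apply C.solvable_of_core
    intro hb
    apply hne
    rw [eq_bot_iff, ← hb]
    exact C.le_core hM hz
  have hMle : M ≤ centralizer ({z} : Set G) := fun x hx => mem_centralizer_singleton_iff.2 (hab x hx z hz)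
  have hNH : NH z M := ⟨fun n hn => hab n hn z hz, fun c _ n hn => hM.conj_mem n hn c⟩
  obtain ⟨h4, -⟩ := C.card_le_of_comm hNH hab
  have hzz := C.zz
  let X := {x : M // x ≠ 1}
  have hX : Nat.card X ≤ 3 := by
    have hF : Fintype M := Fintype.ofFinite _
    have h1 : Nat.card X = Nat.card M - 1 := by
      rw [Nat.card_eq_fintype_card, Nat.card_eq_fintype_card, Fintype.card_subtype_compl,
        Fintype.card_subtype_eq]
    omega
  let f : G → X := fun g => ⟨⟨g * z * g⁻¹, hM.conj_mem z hz g⟩, by
    intro h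
    have h1 : g * z * g⁻¹ = 1 := congrArg Subtype.val h
    apply C.large.z_ne
    rw [mul_inv_eq_one] at h1
    exact mul_eq_left.1 h1⟩
  have hf : ∀ a b : G, f a = f b ↔ (QuotientGroup.mk a : G ⧸ centralizer ({z} : Set G)) = QuotientGroup.mk b := by
    intro a b
    rw [QuotientGroup.eq, mem_centralizer_singleton_iff]
    constructor
    · intro h
      have h1 : a * z * a⁻¹ = b * z * b⁻¹ := congrArg (fun x : X => ((x : M) : G)) h
      calc a⁻¹ * b * z = a⁻¹ * (b * z * b⁻¹) * b := by group
        _ = a⁻¹ * (a * z * a⁻¹) * b := by rw [h1]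
        _ = z * (a⁻¹ * b) := by group
    · intro h
      apply Subtype.ext
      apply Subtype.ext
      show a * z * a⁻¹ = b * z * b⁻¹
      calc a * z * a⁻¹ = a * (z * (a⁻¹ * b)) * b⁻¹ := by group
        _ = a * (a⁻¹ * b * z) * b⁻¹ := by rw [h]
        _ = b * z * b⁻¹ := by group
  have hidx : (centralizer ({z} : Set G)).index ≤ 3 := by
    refine le_trans ?_ hX
    refine Nat.card_le_card_of_injective
      (Quotient.lift f (fun a b hab => (hf a b).2 (Quotient.sound hab)) : G ⧸ centralizer ({z} : Set G) → X) ?_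
    intro a b hab
    induction a using QuotientGroup.induction_on with
    | H x =>
      induction b using QuotientGroup.induction_on with
      | H y => exact (hf x y).1 hab
  have hmul := (centralizer ({z} : Set G)).card_mul_index
  rw [C.card_H] at hmul
  have hpos : (centralizer ({z} : Set G)).index ≠ 0 := Subgroup.index_ne_zero_of_finite
  have h3 : ∃ a b : ℕ, Nat.card G = 2 ^ a * 3 ^ b := by
    rw [← hmul]
    interval_cases h : (centralizer ({z} : Set G)).index
    · exact absurd rfl hpos
    · exact ⟨8, 1, by norm_num⟩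
    · exact ⟨9, 1, by norm_num⟩
    · exact ⟨8, 2, by norm_num⟩
  obtain ⟨a, b, h⟩ := h3
  exact Cfsg.Agent.S0144.result 2 3 a b Nat.prime_two Nat.prime_three h

/-- the decomposition of a minimal normal subgroup -/
theorem Conf.exists_dec [Finite G] (C : Conf Q z π) (hns : ¬ Group.IsSolvable G) :
    ∃ (M : Subgroup G) (m : ℕ) (T : Fin m → Subgroup G), 0 < m ∧ Dec M T ∧ z ∈ M := by
  have hG : Nontrivial G := ⟨⟨z, 1, C.large.z_ne⟩⟩
  obtain ⟨M, hM, hne, hmin⟩ := Cfsg.Agent.Lib.SubnormalJoin.exists_minimal_normal G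
  obtain ⟨m, T, hm, hle, hs, hn, hconj, hcomm, hinj, -, hsup⟩ :=
    Cfsg.Agent.Lib.MinNormal.exists_internal_decomposition M hne hmin
  have hzM : z ∈ M := by
    by_contra hz
    apply hns
    apply C.solvable_of_core
    intro hb
    apply hne
    rw [eq_bot_iff, ← hb]
    exact C.le_core hM hz
  refine ⟨M, m, T, hm, ⟨hM, hle, hs, hn, fun i j hij x hx y hy => hcomm i j hij x hx y hy, hinj, hsup, ?_⟩, hzM⟩
  intro i hi
  apply hns
  apply C.solvable_of_comm_normal hM hne
  have hall : ∀ j, ∀ x ∈ T j, ∀ y ∈ T j, x * y = y * x := by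
    intro j x hx y hy
    obtain ⟨g, hg⟩ := hconj i j
    rw [hg, mem_cj] at hx hy
    have h1 := hi _ hx _ hy
    calc x * y = g * ((g⁻¹ * x * g) * (g⁻¹ * y * g)) * g⁻¹ := by group
      _ = g * ((g⁻¹ * y * g) * (g⁻¹ * x * g)) * g⁻¹ := by rw [h1]
      _ = y * x := by group
  have h1 : ∀ j, ∀ x ∈ T j, ∀ y ∈ M, x * y = y * x := by
    intro j x hx
    have h1 : M ≤ centralizer ({x} : Set G) := by
      rw [← hsup, iSup_le_iff]
      intro k y hy
      rw [mem_centralizer_singleton_iff]
      by_cases hk : j = k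
      · subst hk; exact hall j y hy x hx
      · exact (hcomm j k hk x hx y hy).eq.symm
    intro y hy
    exact (mem_centralizer_singleton_iff.1 (h1 hy)).symm
  intro x hx y hy
  have h2 : M ≤ centralizer ({x} : Set G) := by
    rw [← hsup, iSup_le_iff]
    intro k w hw
    rw [mem_centralizer_singleton_iff]
    exact h1 k w hw x hx
  exact (mem_centralizer_singleton_iff.1 (h2 hy)).symm

/-- factors are not contained in `C(z)` -/
theorem Dec.not_le_cent [Finite G] (C : Conf Q z π) {M : Subgroup G} {m : ℕ} {T : Fin m → Subgroup G}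
    (D : Dec M T) (i : Fin m) : ¬ ∀ x ∈ T i, x * z = z * x := by
  intro h
  have hs := D.simple i
  have h1 : Group.IsSolvable (T i) := by
    have hH := C.solvable_H
    exact Group.isSolvable_of_isSolvable_injective
      (f := Subgroup.inclusion (fun x hx => mem_centralizer_singleton_iff.2 (h x hx) :
        T i ≤ centralizer ({z} : Set G))) (Subgroup.inclusion_injective _)
  have h2 := IsSimpleGroup.comm_iff_isSolvable.2 h1
  exact D.nonab i fun x hx y hy => congrArg Subtype.val (h2 ⟨x, hx⟩ ⟨y, hy⟩)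

end Cfsg.Agent.H319
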