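import Cfsg.Agent.H319.RedD

/-!
# S3237, reduction, fifth part: two factors are impossible (helper319)
-/

set_option autoImplicit false

open Subgroup Cfsg.Agent.Co2Type.Quad

namespace Cfsg.Agent.H319

variable {G : Type*} [Group G] {Q : Subgroup G} {z : G} {π : ↥(centralizer ({z} : Set G)) →* S4}

/-- two simple factors interchanged by `C(z)` -/
structure Two (M L L' : Subgroup G) (Q : Subgroup G) (z : G) (π : ↥(centralizer ({z} : Set G)) →* S4) (a a' x y : G)
    (hy : y ∈ centralizer ({z} : Set G)) : Prop where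
  normal : M.Normal
  simple : IsSimpleGroup L
  nonab : ¬ ∀ u ∈ L, ∀ v ∈ L, u * v = v * u
  comm : ∀ u ∈ L, ∀ v ∈ L', u * v = v * u
  mem : ∀ w, w ∈ M ↔ ∃ u ∈ L, ∃ v ∈ L', w = u * v
  uniq : ∀ u ∈ L, ∀ u' ∈ L, ∀ v ∈ L', ∀ v' ∈ L', u * v = u' * v' → u = u' ∧ v = v'
  ha : a ∈ L
  ha' : a' ∈ L'
  hz : z = a * a'
  ne : a ≠ 1
  aQ : a ∈ Q
  xz : x * z = z * x
  xL : ∀ w, w ∈ L' ↔ x⁻¹ * w * x ∈ L
  yL : ∀ w, w ∈ L → y * w * y⁻¹ ∈ L
  ya : y * a * y⁻¹ = a
  y1 : π ⟨y, hy⟩ ≠ 1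
  y3 : π ⟨y, hy⟩ * π ⟨y, hy⟩ * π ⟨y, hy⟩ = 1

theorem V_three : ∀ s : S4, s ≠ 1 → s * s * s = 1 → ∀ v : S4, inV v = true → v ≠ 1 → ∀ w : S4, inV w = true →
    w ≠ 1 → w = v ∨ w = s * v * s⁻¹ ∨ w = s * (s * v * s⁻¹) * s⁻¹ := by decide +kernel

theorem V_three_ne : ∀ s : S4, s ≠ 1 → s * s * s = 1 → ∀ v : S4, inV v = true → v ≠ 1 → s * v * s⁻¹ ≠ v := by
  decide +kernel

theorem eq_of_card_two {N : Subgroup G} [Finite N] (h : Nat.card N ≤ 2) {a e : G} (ha : a ∈ N) (ha1 : a ≠ 1)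
    (he : e ∈ N) : e = 1 ∨ e = a := by
  classical
  by_contra hc
  push Not at hc
  have hF : Fintype N := Fintype.ofFinite _
  have : 2 < Nat.card N := by
    rw [Nat.card_eq_fintype_card, Fintype.two_lt_card_iff]
    exact ⟨⟨e, he⟩, ⟨a, ha⟩, 1, fun h => hc.2 (congrArg Subtype.val h), fun h => hc.1 (congrArg Subtype.val h),
      fun h => ha1 (congrArg Subtype.val h)⟩
  omega

section

variable {M L L' : Subgroup G} {a a' x y : G} {hy : y ∈ centralizer ({z} : Set G)}

namespace Two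

variable (t : Two M L L' Q z π a a' x y hy)

include t

theorem commz {u : G} (hu : u ∈ L) : u * z = z * u ↔ u * a = a * u := by
  have h1 := t.comm u hu a' t.ha'
  constructor
  · intro h
    rw [t.hz] at h
    have h2 : (u * a) * a' = (a * u) * a' := by
      calc (u * a) * a' = u * (a * a') := by group
        _ = a * a' * u := h
        _ = a * (a' * u) := by group
        _ = a * (u * a') := by rw [h1]
        _ = (a * u) * a' := by group
    exact mul_right_cancel h2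
  · intro h
    rw [t.hz]
    calc u * (a * a') = (u * a) * a' := by group
      _ = (a * u) * a' := by rw [h]
      _ = a * (u * a') := by group
      _ = a * (a' * u) := by rw [h1]
      _ = a * a' * u := by group

theorem split {u v : G} (hu : u ∈ L) (hv : v ∈ L') (h : u * v * z = z * (u * v)) :
    u * z = z * u ∧ v * z = z * v := by
  have h1 := t.comm u hu a' t.ha'
  have h2 := t.comm a t.ha v hv
  have h3 := t.comm u hu v hv
  have h4 : (u * a) * (v * a') = (a * u) * (a' * v) := by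
    have h5 : u * v * (a * a') = a * a' * (u * v) := by rw [← t.hz]; exact h
    calc (u * a) * (v * a') = u * (a * v) * a' := by group
      _ = u * (v * a) * a' := by rw [h2]
      _ = u * v * (a * a') := by group
      _ = a * a' * (u * v) := h5
      _ = a * (a' * u) * v := by group
      _ = a * (u * a') * v := by rw [h1]
      _ = (a * u) * (a' * v) := by group
  obtain ⟨h6, h7⟩ := t.uniq _ (L.mul_mem hu t.ha) _ (L.mul_mem t.ha hu) _ (L'.mul_mem hv t.ha') _
    (L'.mul_mem t.ha' hv) h4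
  have h8 := (t.commz hu).2 h6
  refine ⟨h8, ?_⟩
  have h9 : u * (v * z) = u * (z * v) := by
    calc u * (v * z) = u * v * z := by group
      _ = z * (u * v) := h
      _ = (z * u) * v := by group
      _ = (u * z) * v := by rw [h8]
      _ = u * (z * v) := by group
  exact mul_left_cancel h9

theorem card_cent [Finite G] : Nat.card (M ⊓ centralizer ({z} : Set G) : Subgroup G) =
    Nat.card (L ⊓ centralizer ({z} : Set G) : Subgroup G) *
      Nat.card (L ⊓ centralizer ({z} : Set G) : Subgroup G) := by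
  have h1 : Nat.card (L' ⊓ centralizer ({z} : Set G) : Subgroup G) =
      Nat.card (L ⊓ centralizer ({z} : Set G) : Subgroup G) := by
    refine Nat.card_congr ⟨fun w => ⟨x⁻¹ * w * x, (t.xL w).1 w.2.1, ?_⟩, fun w => ⟨x * w * x⁻¹, ?_, ?_⟩, ?_, ?_⟩
    · refine mem_centralizer_singleton_iff.2 ?_
      have h2 := mem_centralizer_singleton_iff.1 w.2.2
      have h3 := t.xz
      calc x⁻¹ * w * x * z = x⁻¹ * w * (x * z) := by group
        _ = x⁻¹ * (w * z) * x := by rw [h3]; group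
        _ = x⁻¹ * (z * w) * x := by rw [h2]
        _ = (x⁻¹ * (z * x)) * (x⁻¹ * w * x) := by group
        _ = (x⁻¹ * (x * z)) * (x⁻¹ * w * x) := by rw [h3]
        _ = z * (x⁻¹ * w * x) := by group
    · refine (t.xL _).2 ?_
      have e : x⁻¹ * (x * (w : G) * x⁻¹) * x = w := by group
      rw [e]; exact w.2.1
    · refine mem_centralizer_singleton_iff.2 ?_
      have h2 := mem_centralizer_singleton_iff.1 w.2.2
      have h3 := t.xz
      calc x * (w : G) * x⁻¹ * z = x * w * x⁻¹ * (z * x) * x⁻¹ := by group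
        _ = x * w * x⁻¹ * (x * z) * x⁻¹ := by rw [h3]
        _ = x * (w * z) * x⁻¹ := by group
        _ = x * (z * w) * x⁻¹ := by rw [h2]
        _ = (x * z) * w * x⁻¹ := by group
        _ = (z * x) * w * x⁻¹ := by rw [h3]
        _ = z * (x * w * x⁻¹) := by group
    · intro w; exact Subtype.ext (by show x * (x⁻¹ * (w : G) * x) * x⁻¹ = w; group)
    · intro w; exact Subtype.ext (by show x⁻¹ * (x * (w : G) * x⁻¹) * x = w; group)
  have h2 : Nat.card (↥(L ⊓ centralizer ({z} : Set G) : Subgroup G) ×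
      ↥(L' ⊓ centralizer ({z} : Set G) : Subgroup G)) =
      Nat.card (M ⊓ centralizer ({z} : Set G) : Subgroup G) := by
    refine Nat.card_congr (Equiv.ofBijective (fun p => ⟨p.1 * p.2, (t.mem _).2 ⟨p.1, p.1.2.1, p.2, p.2.2.1, rfl⟩,
      mul_mem p.1.2.2 p.2.2.2⟩) ⟨?_, ?_⟩)
    · rintro ⟨u, v⟩ ⟨u', v'⟩ h
      have h3 := t.uniq u u.2.1 u' u'.2.1 v v.2.1 v' v'.2.1 (congrArg Subtype.val h)
      exact Prod.ext (Subtype.ext h3.1) (Subtype.ext h3.2)
    · rintro ⟨w, hw, hwz⟩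
      obtain ⟨u, hu, v, hv, rfl⟩ := (t.mem w).1 hw
      obtain ⟨h3, h4⟩ := t.split hu hv (mem_centralizer_singleton_iff.1 hwz)
      exact ⟨⟨⟨u, hu, mem_centralizer_singleton_iff.2 h3⟩, ⟨v, hv, mem_centralizer_singleton_iff.2 h4⟩⟩, rfl⟩
  rw [← h2, Nat.card_prod, h1]

/-- if `C_L(z)` is abelian so is `C_M(z)` -/
theorem abelian [Finite G] (hab : ∀ u ∈ L ⊓ centralizer ({z} : Set G), ∀ v ∈ L ⊓ centralizer ({z} : Set G), u * v = v * u) :
    ∀ u ∈ M ⊓ centralizer ({z} : Set G), ∀ v ∈ M ⊓ centralizer ({z} : Set G), u * v = v * u := by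
  have hab' : ∀ u ∈ L' ⊓ centralizer ({z} : Set G), ∀ v ∈ L' ⊓ centralizer ({z} : Set G), u * v = v * u := by
    have key : ∀ w ∈ L' ⊓ centralizer ({z} : Set G), x⁻¹ * w * x ∈ L ⊓ centralizer ({z} : Set G) := by
      intro w hw
      refine ⟨(t.xL w).1 hw.1, mem_centralizer_singleton_iff.2 ?_⟩
      have h2 := mem_centralizer_singleton_iff.1 hw.2
      have h3 := t.xz
      calc x⁻¹ * w * x * z = x⁻¹ * w * (x * z) := by group
        _ = x⁻¹ * (w * z) * x := by rw [h3]; group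
        _ = x⁻¹ * (z * w) * x := by rw [h2]
        _ = (x⁻¹ * (z * x)) * (x⁻¹ * w * x) := by group
        _ = (x⁻¹ * (x * z)) * (x⁻¹ * w * x) := by rw [h3]
        _ = z * (x⁻¹ * w * x) := by group
    intro u hu v hv
    have h := hab _ (key u hu) _ (key v hv)
    calc u * v = x * ((x⁻¹ * u * x) * (x⁻¹ * v * x)) * x⁻¹ := by group
      _ = x * ((x⁻¹ * v * x) * (x⁻¹ * u * x)) * x⁻¹ := by rw [h]
      _ = v * u := by group
  rintro w ⟨hw, hwz⟩ w' ⟨hw', hwz'⟩
  obtain ⟨u, hu, v, hv, rfl⟩ := (t.mem w).1 hw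
  obtain ⟨u', hu', v', hv', rfl⟩ := (t.mem w').1 hw'
  obtain ⟨h3, h4⟩ := t.split hu hv (mem_centralizer_singleton_iff.1 hwz)
  obtain ⟨h3', h4'⟩ := t.split hu' hv' (mem_centralizer_singleton_iff.1 hwz')
  have e1 := hab u ⟨hu, mem_centralizer_singleton_iff.2 h3⟩ u' ⟨hu', mem_centralizer_singleton_iff.2 h3'⟩
  have e2 := hab' v ⟨hv, mem_centralizer_singleton_iff.2 h4⟩ v' ⟨hv', mem_centralizer_singleton_iff.2 h4'⟩
  have e3 := t.comm u hu v' hv'
  have e4 := t.comm u' hu' v hv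
  calc u * v * (u' * v') = u * (v * u') * v' := by group
    _ = u * (u' * v) * v' := by rw [← e4]
    _ = (u * u') * (v * v') := by group
    _ = (u' * u) * (v' * v) := by rw [e1, e2]
    _ = u' * (u * v') * v := by group
    _ = u' * (v' * u) * v := by rw [e3]
    _ = u' * v' * (u * v) := by group

end Two

end

theorem sq_dvd : ∀ d : ℕ, d ≤ 27 → d * d ∣ 768 → d = 1 ∨ d = 2 ∨ d = 4 ∨ d = 8 ∨ d = 16 := by decide

end Cfsg.Agent.H319
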