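import Cfsg.Agent.H319.RedF

/-!
# S3237, reduction, conclusion (helper319)

`Conf.exists_simple`: if `G` is not solvable it has a nonabelian simple normal subgroup `L ∋ z` with `C_G(L) = 1`.
-/

set_option autoImplicit false

open Subgroup Cfsg.Agent.Co2Type.Quad

namespace Cfsg.Agent.H319

variable {G : Type*} [Group G] {Q : Subgroup G} {z : G} {π : ↥(centralizer ({z} : Set G)) →* S4}

theorem mem_four {N : Subgroup G} [Finite N] (h4 : Nat.card N ≤ 4) {a c w : G} (ha : a ∈ N) (hc : c ∈ N)
    (hw : w ∈ N) (ha1 : a ≠ 1) (hc1 : c ≠ 1) (hac : a ≠ c) (hm : a * c ≠ 1) :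
    w = 1 ∨ w = a ∨ w = c ∨ w = a * c := by
  classical
  have hF : Fintype N := Fintype.ofFinite _
  rw [Nat.card_eq_fintype_card] at h4
  have h1 : a * c ≠ a := fun h => hc1 (mul_eq_left.1 h)
  have h2 : a * c ≠ c := fun h => ha1 (mul_eq_right.1 h)
  let A : Finset N := {1, ⟨a, ha⟩, ⟨c, hc⟩, ⟨a * c, N.mul_mem ha hc⟩}
  have hA : A.card = 4 := by
    rw [Finset.card_insert_of_notMem, Finset.card_insert_of_notMem, Finset.card_insert_of_notMem,
        Finset.card_singleton]
    · simp only [Finset.mem_singleton, Subtype.mk.injEq]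
      exact fun h => h2 h.symm
    · simp only [Finset.mem_insert, Finset.mem_singleton, Subtype.mk.injEq, not_or]
      exact ⟨hac, fun h => h1 h.symm⟩
    · simp only [Finset.mem_insert, Finset.mem_singleton, not_or]
      exact ⟨fun h => ha1 (congrArg Subtype.val h).symm, fun h => hc1 (congrArg Subtype.val h).symm,
        fun h => hm (congrArg Subtype.val h).symm⟩
  have hu : A = Finset.univ := Finset.eq_univ_of_card A (le_antisymm (Finset.card_le_univ A) (by rw [hA]; exact h4))
  have : (⟨w, hw⟩ : N) ∈ A := by rw [hu]; exact Finset.mem_univ _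
  simp only [A, Finset.mem_insert, Finset.mem_singleton] at this
  rcases this with h | h | h | h
  · exact Or.inl (congrArg Subtype.val h)
  · exact Or.inr (Or.inl (congrArg Subtype.val h))
  · exact Or.inr (Or.inr (Or.inl (congrArg Subtype.val h)))
  · exact Or.inr (Or.inr (Or.inr (congrArg Subtype.val h)))

/-- **S3237, the reduction** -/
theorem Conf.exists_simple [Finite G] (C : Conf Q z π) (hns : ¬ Group.IsSolvable G) :
    ∃ L : Subgroup G, L.Normal ∧ IsSimpleGroup L ∧ (¬ ∀ u ∈ L, ∀ v ∈ L, u * v = v * u) ∧
      centralizer (L : Set G) = ⊥ ∧ z ∈ L := by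
  classical
  have hO : Cfsg.oddCore G = ⊥ := by
    by_contra h
    exact hns (C.solvable_of_core h)
  obtain ⟨M, m, T, hm, D, hzM⟩ := C.exists_dec hns
  set i : Fin m := ⟨0, hm⟩ with hi
  obtain ⟨a, ha, b, hb, hbc, hzab⟩ := D.decomp i hzM
  have hab : a * b = b * a := (hbc a ha).symm
  have ha1 : a ≠ 1 := by
    intro h
    refine D.not_le_cent C i fun x hx => ?_
    rw [hzab, h, one_mul]
    exact (hbc x hx).symm
  have haz : a * z = z * a := by
    rw [hzab]
    calc a * (a * b) = a * (b * a) := by rw [hab]
      _ = a * b * a := by group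
  have hfix : ∀ c, c * z = z * c → (∀ x, x ∈ T i ↔ c⁻¹ * x * c ∈ T i) → c * a * c⁻¹ = a := by
    intro c hc hcT
    have h1 : (c * a * c⁻¹) * (c * b * c⁻¹) = a * b := by
      calc (c * a * c⁻¹) * (c * b * c⁻¹) = c * (a * b) * c⁻¹ := by group
        _ = c * z * c⁻¹ := by rw [hzab]
        _ = a * b := by rw [hc, mul_inv_cancel_right, hzab]
    refine (D.unique i ?_ ha ?_ hbc h1).1
    · rw [hcT]
      have e : c⁻¹ * (c * a * c⁻¹) * c = a := by group
      rw [e]; exact ha
    · intro y hy
      have h2 := hbc _ ((hcT y).1 hy)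
      calc c * b * c⁻¹ * y = c * (b * (c⁻¹ * y * c)) * c⁻¹ := by group
        _ = c * ((c⁻¹ * y * c) * b) * c⁻¹ := by rw [h2]
        _ = y * (c * b * c⁻¹) := by group
  by_cases hall : ∀ c, c * z = z * c → ∀ x, x ∈ T i ↔ c⁻¹ * x * c ∈ T i
  · -- `z ∈ T i`
    have hNH : NH z (zpowers a) := by
      refine ⟨?_, ?_⟩
      · rintro _ ⟨k, rfl⟩
        have : Commute a z := haz
        exact (this.zpow_left k).eq
      · rintro c hc _ ⟨k, rfl⟩
        refine ⟨k, ?_⟩
        show a ^ k = c * a ^ k * c⁻¹
        rw [← conj_zpow, hfix c hc (hall c hc)]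
    have hzT : z ∈ T i := by
      have h1 := z_mem C.large hNH (by
        intro h
        have : a ∈ zpowers a := mem_zpowers a
        rw [h, mem_bot] at this
        exact ha1 this)
      exact (zpowers_le.2 ha) h1
    have hone : ∀ j, j = i := by
      intro j
      by_contra hj
      exact D.not_le_cent C j fun x hx => D.comm j i hj x hx z hzT
    have hMT : M = T i := by
      apply le_antisymm _ (D.le i)
      rw [← D.sup, iSup_le_iff]
      intro j
      rw [hone j]
    refine ⟨T i, hMT ▸ D.normal, D.simple i, D.nonab i, ?_, hzT⟩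
    have hn : (T i).Normal := hMT ▸ D.normal
    have hcn : (centralizer ((T i : Subgroup G) : Set G)).Normal := inferInstance
    rw [eq_bot_iff, ← hO]
    apply C.le_core hcn
    intro hz
    apply C.large.z_ne
    exact D.cent hzT fun y hy => (mem_centralizer_iff.1 hz y hy).symm
  · exfalso
    push Not at hall
    obtain ⟨x, hxz, w0, hw0⟩ := hall
    obtain ⟨j, hj⟩ := D.exists_index x i
    have hji : j ≠ i := by
      rintro rfl
      rcases hw0 with ⟨h1, h2⟩ | ⟨h1, h2⟩
      · exact h2 ((hj w0).1 h1)
      · exact h1 ((hj w0).2 h2)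
    set a' := x * a * x⁻¹ with ha'
    have ha'T : a' ∈ T j := by
      rw [hj]
      have e : x⁻¹ * (x * a * x⁻¹) * x = a := by group
      rw [ha', e]; exact ha
    -- the abelian normal subgroup generated by the conjugates of `a`
    set S : Set G := {w | ∃ c, c * z = z * c ∧ w = c * a * c⁻¹} with hS
    have hScomm : ∀ u ∈ S, ∀ v ∈ S, u * v = v * u := by
      rintro _ ⟨c, hc, rfl⟩ _ ⟨c', hc', rfl⟩
      obtain ⟨k, hk⟩ := D.exists_index c i
      obtain ⟨k', hk'⟩ := D.exists_index c' i
      have m1 : c * a * c⁻¹ ∈ T k := by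
        rw [hk]
        have e : c⁻¹ * (c * a * c⁻¹) * c = a := by group
        rw [e]; exact ha
      have m2 : c' * a * c'⁻¹ ∈ T k' := by
        rw [hk']
        have e : c'⁻¹ * (c' * a * c'⁻¹) * c' = a := by group
        rw [e]; exact ha
      by_cases hkk : k = k'
      · subst hkk
        have hcc : (c⁻¹ * c') * z = z * (c⁻¹ * c') := by
          have e1 : Commute c z := hc
          have e2 : Commute c' z := hc'
          exact (e1.inv_left.mul_left e2).eq
        have h1 := hfix (c⁻¹ * c') hcc (by
          intro w
          have e : (c⁻¹ * c')⁻¹ * w * (c⁻¹ * c') = c'⁻¹ * (c * w * c⁻¹) * c' := by group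
          rw [e, ← hk', hk]
          have e' : c⁻¹ * (c * w * c⁻¹) * c = w := by group
          rw [e'])
        have h2 : c' * a * c'⁻¹ = c * a * c⁻¹ := by
          calc c' * a * c'⁻¹ = c * ((c⁻¹ * c') * a * (c⁻¹ * c')⁻¹) * c⁻¹ := by group
            _ = c * a * c⁻¹ := by rw [h1]
        rw [h2]
      · exact D.comm k k' hkk _ m1 _ m2
    have hSA : S ⊆ closure S := subset_closure
    have habA : ∀ u ∈ closure S, ∀ v ∈ closure S, u * v = v * u := by
      have h1 : closure S ≤ centralizer S := by
        rw [closure_le]
        intro u hu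
        exact mem_centralizer_iff.2 fun v hv => hScomm v hv u hu
      have h2 : closure S ≤ centralizer ((closure S : Subgroup G) : Set G) := by
        rw [closure_le]
        intro u hu
        exact mem_centralizer_iff.2 fun v hv => (mem_centralizer_iff.1 (h1 hv) u hu).symm
      intro u hu v hv
      exact (mem_centralizer_iff.1 (h2 hu) v hv).symm
    have hNHA : NH z (closure S) := by
      refine ⟨?_, ?_⟩
      · intro n hn
        have h1 : closure S ≤ centralizer ({z} : Set G) := by
          rw [closure_le]
          rintro _ ⟨c, hc, rfl⟩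
          refine mem_centralizer_singleton_iff.2 ?_
          have e1 : Commute c z := hc
          have e2 : Commute a z := haz
          exact ((e1.mul_left e2).mul_left e1.inv_left).eq
        exact mem_centralizer_singleton_iff.1 (h1 hn)
      · intro c hc n hn
        induction hn using closure_induction with
        | mem u hu =>
          obtain ⟨k, hk, rfl⟩ := hu
          apply hSA
          refine ⟨c * k, ?_, by group⟩
          have e1 : Commute c z := hc
          have e2 : Commute k z := hk
          exact (e1.mul_left e2).eq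
        | one =>
          have e : c * 1 * c⁻¹ = 1 := by group
          rw [e]; exact one_mem _
        | mul u v hu hv h1 h2 =>
          have e : c * (u * v) * c⁻¹ = (c * u * c⁻¹) * (c * v * c⁻¹) := by group
          rw [e]; exact mul_mem h1 h2
        | inv u hu h1 =>
          have e : c * u⁻¹ * c⁻¹ = (c * u * c⁻¹)⁻¹ := by group
          rw [e]; exact inv_mem h1
    obtain ⟨hA4, hAQ⟩ := C.card_le_of_comm hNHA habA
    have haA : a ∈ closure S := hSA ⟨1, by rw [one_mul, mul_one], by group⟩
    have ha'A : a' ∈ closure S := hSA ⟨x, hxz, rfl⟩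
    have ha'1 : a' ≠ 1 := by
      intro h
      apply ha1
      rw [ha', mul_inv_eq_one] at h
      exact mul_eq_left.1 h
    have hcij : ∀ u ∈ T i, ∀ v ∈ T j, u * v = v * u := fun u hu v hv => D.comm i j hji.symm u hu v hv
    have hne : a ≠ a' := by
      intro h
      apply ha1
      apply D.cent ha
      intro y hy
      rw [h]
      exact (hcij y hy a' ha'T).symm
    have hprod : a * a' ≠ 1 := by
      intro h
      apply ha1
      apply D.cent ha
      intro y hy
      have h1 : a = a'⁻¹ := eq_inv_of_mul_eq_one_left h
      have h2 : Commute y a' := hcij y hy a' ha'T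
      rw [h1]
      exact h2.inv_right.eq.symm
    have hzA : z ∈ closure S := z_mem C.large hNHA (by
      intro h
      rw [h, mem_bot] at haA
      exact ha1 haA)
    have hzaa : z = a * a' := by
      rcases mem_four hA4 haA ha'A hzA ha1 ha'1 hne hprod with h | h | h | h
      · exact absurd h C.large.z_ne
      · exfalso
        refine D.not_le_cent C j fun y hy => ?_
        rw [h]; exact (hcij a ha y hy).symm
      · exfalso
        refine D.not_le_cent C i fun y hy => ?_
        rw [h]; exact hcij y hy a' ha'T
      · exact h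
    have htwo : ∀ k, k = i ∨ k = j := by
      intro k
      by_contra hk
      push Not at hk
      refine D.not_le_cent C k fun y hy => ?_
      rw [hzaa]
      have e1 : Commute y a := D.comm k i hk.1 y hy a ha
      have e2 : Commute y a' := D.comm k j hk.2 y hy a' ha'T
      exact (e1.mul_right e2).eq
    have hmem : ∀ w, w ∈ M ↔ ∃ u ∈ T i, ∃ v ∈ T j, w = u * v := by
      intro w
      constructor
      · intro hw
        rw [← D.sup] at hw
        induction hw using Subgroup.iSup_induction' with
        | hp k w hw =>
          rcases htwo k with rfl | rfl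
          · exact ⟨w, hw, 1, (T j).one_mem, (mul_one w).symm⟩
          · exact ⟨1, (T i).one_mem, w, hw, (one_mul w).symm⟩
        | h1 => exact ⟨1, (T i).one_mem, 1, (T j).one_mem, (mul_one 1).symm⟩
        | hmul u v hu hv h1 h2 =>
          obtain ⟨p, hp, q, hq, rfl⟩ := h1
          obtain ⟨p', hp', q', hq', rfl⟩ := h2
          refine ⟨p * p', (T i).mul_mem hp hp', q * q', (T j).mul_mem hq hq', ?_⟩
          have e := hcij p' hp' q hq
          calc p * q * (p' * q') = p * (q * p') * q' := by group
            _ = p * (p' * q) * q' := by rw [e]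
            _ = p * p' * (q * q') := by group
      · rintro ⟨u, hu, v, hv, rfl⟩
        exact M.mul_mem (D.le i hu) (D.le j hv)
    have huniq : ∀ u ∈ T i, ∀ u' ∈ T i, ∀ v ∈ T j, ∀ v' ∈ T j, u * v = u' * v' → u = u' ∧ v = v' := by
      intro u hu u' hu' v hv v' hv' h
      exact D.unique i hu hu' (fun y hy => (hcij y hy v hv).symm) (fun y hy => (hcij y hy v' hv').symm) h
    -- an element of order three modulo `Q`
    obtain ⟨g, hg1, hg2, hg3⟩ := exists_three
    obtain ⟨y0, rfl⟩ := C.surj g
    have hy0 := mem_centralizer_singleton_iff.1 y0.2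
    have hy : (y0 : G) * y0 ∈ centralizer ({z} : Set G) := mul_mem y0.2 y0.2
    have hiff : ∀ w, w ∈ T i ↔ ((y0 : G) * y0)⁻¹ * w * ((y0 : G) * y0) ∈ T i := by
      have key : ∀ w, ((y0 : G) * y0)⁻¹ * w * ((y0 : G) * y0) = (y0 : G)⁻¹ * ((y0 : G)⁻¹ * w * y0) * y0 := by
        intro w; group
      obtain ⟨k, hk⟩ := D.exists_index y0 i
      obtain ⟨l, hl⟩ := D.exists_index y0 j
      rcases htwo k with hk' | hk'
      · subst hk'
        intro w
        rw [key, ← hk, ← hk]
      · subst hk'
        rcases htwo l with hl' | hl'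
        · subst hl'
          intro w
          rw [key, ← hk, ← hl]
        · exfalso
          subst hl'
          apply hji
          apply D.inj
          ext w
          have e : (y0 : G)⁻¹ * ((y0 : G) * w * (y0 : G)⁻¹) * y0 = w := by group
          have h1 := hk ((y0 : G) * w * (y0 : G)⁻¹)
          have h2 := hl ((y0 : G) * w * (y0 : G)⁻¹)
          rw [e] at h1 h2
          exact h2.symm.trans h1
    have hπy : π ⟨(y0 : G) * y0, hy⟩ = π y0 * π y0 := map_mul π y0 y0
    have t : Two M (T i) (T j) Q z π a a' x ((y0 : G) * y0) hy :=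
      { normal := D.normal
        simple := D.simple i
        nonab := D.nonab i
        comm := hcij
        mem := hmem
        uniq := huniq
        ha := ha
        ha' := ha'T
        hz := hzaa
        ne := ha1
        aQ := hAQ haA
        xz := hxz
        xL := hj
        yL := fun w hw => by
          rw [hiff]
          have e : ((y0 : G) * y0)⁻¹ * ((y0 : G) * y0 * w * ((y0 : G) * y0)⁻¹) * ((y0 : G) * y0) = w := by group
          rw [e]; exact hw
        ya := hfix _ (by
          have e : Commute (y0 : G) z := hy0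
          exact (e.mul_left e).eq) hiff
        y1 := by rw [hπy]; exact hg2
        y3 := by
          rw [hπy]
          calc π y0 * π y0 * (π y0 * π y0) * (π y0 * π y0) = (π y0 * π y0 * π y0) * (π y0 * π y0 * π y0) := by group
            _ = 1 := by rw [hg3, one_mul] }
    exact t.false C

end Cfsg.Agent.H319
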