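import Cfsg.Agent.H319.RedG
import Cfsg.Agent.Lib.SylowNormalInf

/-!
# S3237: the Sylow 2-subgroups of the simple normal subgroup (helper319)
-/

set_option autoImplicit false

open Subgroup Cfsg.Agent.Co2Type.Quad

namespace Cfsg.Agent.H319

variable {G : Type*} [Group G] {Q : Subgroup G} {z : G} {π : ↥(centralizer ({z} : Set G)) →* S4}

theorem isPGroup_Q (C : Conf Q z π) : IsPGroup 2 Q := IsPGroup.of_card (n := 5) (by rw [C.card]; norm_num)

/-- a Sylow 2-subgroup of `G` in `C(z)` -/
theorem Conf.exists_sylow [Finite G] (C : Conf Q z π) :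
    ∃ S : Sylow 2 G, (∀ s ∈ (S : Subgroup G), s * z = z * s) ∧ Q ≤ (S : Subgroup G) := by
  have : Fact (Nat.Prime 2) := ⟨Nat.prime_two⟩
  obtain ⟨P, hP⟩ := (isPGroup_Q C).exists_le_sylow
  have hzP : z ∈ (P : Subgroup G) := hP C.large.z_mem
  have hPn : Nontrivial ↥(P : Subgroup G) := ⟨⟨⟨z, hzP⟩, 1, fun h => C.large.z_ne (congrArg Subtype.val h)⟩⟩
  have hZ : Nontrivial (center ↥(P : Subgroup G)) := P.isPGroup'.center_nontrivial
  obtain ⟨s, hs⟩ : ∃ s : center ↥(P : Subgroup G), orderOf s = 2 := by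
    apply exists_prime_orderOf_dvd_card'
    have h3 : IsPGroup 2 (center ↥(P : Subgroup G)) := P.isPGroup'.to_subgroup _
    obtain ⟨n, hn⟩ := IsPGroup.iff_card.1 h3
    have h4 : 1 < Nat.card (center ↥(P : Subgroup G)) := Finite.one_lt_card
    rw [hn] at h4 ⊢
    cases n with
    | zero => simp at h4
    | succ n => exact Dvd.intro_left _ (pow_succ 2 n).symm
  have hs1 : ((s : ↥(P : Subgroup G)) : G) ≠ 1 := by
    intro h
    have : s = 1 := Subtype.ext (Subtype.ext h)
    rw [this, orderOf_one] at hs; omega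
  have hsc : ∀ p ∈ (P : Subgroup G), p * ((s : ↥(P : Subgroup G)) : G) = s * p := by
    intro p hp
    exact congrArg Subtype.val (mem_center_iff.1 s.2 ⟨p, hp⟩)
  have hsQ : ((s : ↥(P : Subgroup G)) : G) ∈ Q :=
    C.large.self _ (hsc z hzP).symm fun q hq => (hsc q (hP hq)).symm
  have hsz : ((s : ↥(P : Subgroup G)) : G) = z :=
    (C.large.cent _ hsQ fun q hq => (hsc q (hP hq)).symm).resolve_left hs1
  refine ⟨P, ?_, hP⟩
  intro p hp
  rw [← hsz]; exact hsc p hp

theorem two_part {n m k l : ℕ} (h : 2 ^ n * k = 2 ^ m * l) (hk : Odd k) (hl : Odd l) : n = m := by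
  have h1 : 2 ^ n ∣ 2 ^ m := by
    have : (2 ^ n).Coprime l := Nat.Coprime.pow_left n (Nat.coprime_two_left.2 hl)
    exact this.dvd_of_dvd_mul_right (h ▸ Dvd.intro _ rfl)
  have h2 : 2 ^ m ∣ 2 ^ n := by
    have : (2 ^ m).Coprime k := Nat.Coprime.pow_left m (Nat.coprime_two_left.2 hk)
    exact this.dvd_of_dvd_mul_right (h ▸ Dvd.intro _ rfl)
  exact Nat.pow_right_injective le_rfl (Nat.dvd_antisymm h1 h2)

/-- a 3-cycle -/
def redC3 : S4 := Equiv.swap 0 1 * Equiv.swap 1 2

theorem odd_cls_aux : ∀ g : S4, inV g = false → g * g * (g * g) = 1 → ∀ x : S4, inV x = false →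
    x * x * (x * x) = 1 → (inV (x * g) || inV (x * (redC3 * g * redC3⁻¹)) || inV (x * (redC3⁻¹ * g * redC3))) = true := by
  decide +kernel

theorem odd_cls_card : (Finset.univ.filter fun x : S4 => inV x = false ∧ x * x * (x * x) = 1).card = 12 := by
  decide +kernel

theorem odd_cls_big : ∀ g : S4, inV g = false → g * g * (g * g) = 1 →
    12 ≤ (Finset.univ.filter fun x : S4 => inV x = false ∧
      ∃ k : S4, inV (x * (k * g * k⁻¹)) = true).card := by
  intro g hg h4
  rw [← odd_cls_card]
  refine Finset.card_le_card ?_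
  intro x hx
  rw [Finset.mem_filter] at hx ⊢
  refine ⟨hx.1, hx.2.1, ?_⟩
  have h1 := odd_cls_aux g hg h4 x hx.2.1 hx.2.2
  rw [Bool.or_eq_true, Bool.or_eq_true] at h1
  rcases h1 with (h1 | h1) | h1
  · exact ⟨1, by rw [one_mul, inv_one, mul_one]; exact h1⟩
  · exact ⟨redC3, h1⟩
  · exact ⟨redC3⁻¹, by rw [inv_inv]; exact h1⟩

/-- elements of 2-power order in a normal subgroup of `S₄` of order at most 12 -/
theorem inV_of_mem {N : Subgroup S4} (hN : N.Normal) (hV : V4 ≤ N) (hc : Nat.card N ≤ 12) {g : S4} (hg : g ∈ N)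
    (h4 : g * g * (g * g) = 1) : inV g = true := by
  classical
  by_contra hgV
  have hgV' : inV g = false := by
    cases h : inV g with
    | false => rfl
    | true => exact absurd h hgV
  have h3 := odd_cls_big g hgV' h4
  have hsub : (Finset.univ.filter fun x : S4 => inV x = false ∧ ∃ k : S4, inV (x * (k * g * k⁻¹)) = true) ∪
      (Finset.univ.filter fun x : S4 => inV x = true) ⊆ Finset.univ.filter fun x : S4 => x ∈ N := by
    intro x hx
    rw [Finset.mem_union, Finset.mem_filter, Finset.mem_filter] at hx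
    rw [Finset.mem_filter]
    refine ⟨Finset.mem_univ _, ?_⟩
    rcases hx with ⟨-, -, k, hk⟩ | ⟨-, hx⟩
    · have h5 := N.mul_mem (hV hk) (N.inv_mem (hN.conj_mem g hg k))
      rwa [mul_inv_cancel_right] at h5
    · exact hV hx
  have hdis : Disjoint (Finset.univ.filter fun x : S4 => inV x = false ∧ ∃ k : S4, inV (x * (k * g * k⁻¹)) = true)
      (Finset.univ.filter fun x : S4 => inV x = true) := by
    rw [Finset.disjoint_left]
    intro x hx hx'
    rw [Finset.mem_filter] at hx hx'
    rw [hx.2.1] at hx'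
    exact absurd hx'.2 (by simp)
  have h4 := Finset.card_le_card hsub
  rw [Finset.card_union_of_disjoint hdis] at h4
  have h5 : (Finset.univ.filter fun x : S4 => inV x = true).card = 4 := by decide +kernel
  have h6 : (Finset.univ.filter fun x : S4 => x ∈ N).card = Nat.card N := by
    rw [Nat.card_eq_fintype_card, Fintype.card_subtype]
  rw [h5, h6] at h4
  omega

/-- every element of 2-power order of `S₄` has order dividing 4 -/
theorem pow_four : ∀ g : S4, g * g * (g * g) = 1 ∨ g * g * g = 1 := by decide +kernel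

theorem order_two_part {g : S4} {n : ℕ} (h : g ^ 2 ^ n = 1) : g * g * (g * g) = 1 := by
  rcases pow_four g with h1 | h1
  · exact h1
  · have h2 : orderOf g ∣ 2 ^ n := orderOf_dvd_of_pow_eq_one h
    have h3 : orderOf g ∣ 3 := orderOf_dvd_of_pow_eq_one (by rw [pow_succ, pow_two]; exact h1)
    have h4 : (2 ^ n).Coprime 3 := Nat.Coprime.pow_left n (by norm_num)
    have h5 : orderOf g = 1 := Nat.eq_one_of_dvd_coprimes h4 h2 h3
    rw [orderOf_eq_one_iff] at h5
    rw [h5]; rfl

/-- the data of the Sylow subgroup -/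
structure SylData (L : Subgroup G) (z : G) (SL : Subgroup G) : Prop where
  le : SL ≤ L
  cent : ∀ s ∈ SL, s * z = z * s
  z_mem : z ∈ SL
  two : IsPGroup 2 SL
  odd : Odd (SL.relIndex L)
  cases : (Nat.card SL ≤ 4 ∧ Nat.card (L ⊓ centralizer ({z} : Set G) : Subgroup G) = Nat.card SL) ∨
    ((¬ ∀ x ∈ SL, ∀ y ∈ SL, x * y = y * x) ∧
      (∀ x ∈ SL, ∀ y ∈ SL, ∀ t ∈ SL, (x * y * x⁻¹ * y⁻¹) * t = t * (x * y * x⁻¹ * y⁻¹)) ∧
      (Nat.card SL = 16 ∨ Nat.card SL = 32 ∨ (Nat.card SL = 64 ∧
        Nat.card (SL ⊓ centralizer (SL : Set G) : Subgroup G) ≤ 4 ∧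
        (Nat.card (L ⊓ centralizer ({z} : Set G) : Subgroup G) = 64 ∨
          Nat.card (L ⊓ centralizer ({z} : Set G) : Subgroup G) = 192)))) ∨
    (Nat.card SL = 128 ∨ Nat.card SL = 256)

theorem Conf.sylData [Finite G] (C : Conf Q z π) {L : Subgroup G} (hL : L.Normal) (hz : z ∈ L) :
    ∃ SL : Subgroup G, SylData L z SL := by
  classical
  have hp2 : Fact (Nat.Prime 2) := ⟨Nat.prime_two⟩
  obtain ⟨S, hSz, hQS⟩ := C.exists_sylow
  set SL : Subgroup G := (S : Subgroup G) ⊓ L with hSL
  set D : Subgroup G := L ⊓ centralizer ({z} : Set G) with hD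
  have hN : NH z D := nh_inf hL z
  have hSLD : SL ≤ D := fun s hs => ⟨hs.2, mem_centralizer_singleton_iff.2 (hSz s hs.1)⟩
  have hodd : Odd (SL.relIndex L) := by
    have h1 := Cfsg.Agent.Lib.SylowNormalInf.not_dvd_relIndex S L
    rw [hSL, Subgroup.inf_relIndex_right]
    exact Nat.not_even_iff_odd.1 fun h => h1 (even_iff_two_dvd.1 h)
  have h2 : IsPGroup 2 SL := S.isPGroup'.to_le inf_le_left
  have hzSL : z ∈ SL := ⟨hQS C.large.z_mem, hz⟩
  have hoddD : Odd (SL.relIndex D) := by
    have h1 : SL.relIndex D ∣ SL.relIndex L := by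
      rw [← Subgroup.relIndex_mul_relIndex SL D L hSLD inf_le_left]
      exact Dvd.intro _ rfl
    exact hodd.of_dvd_nat h1
  have hcardD := Cfsg.Agent.Lib.SylowNormalInf.card_mul_relIndex SL D hSLD
  obtain ⟨n, hn⟩ := IsPGroup.iff_card.1 h2
  have hmul := C.card_eq_mul hN
  have hQD : (D ⊓ Q : Subgroup G) ≤ SL := fun w hw => ⟨hQS hw.2, hw.1.1⟩
  -- nonabelian
  have hna : Nat.card (WN C.large D) = 8 ∨ Q ≤ D → ¬ ∀ x ∈ SL, ∀ y ∈ SL, x * y = y * x := by
    intro h hab
    have h8 : 8 ≤ Nat.card (WN C.large D) := by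
      rcases h with h | h
      · exact h.ge
      · have h1 := card_WN C.large (N := D) (h C.large.z_mem)
        have := C.finiteQ
        rw [inf_eq_right.2 h, C.card] at h1
        omega
    obtain ⟨a, ⟨x, hx, rfl⟩, c, ⟨y, hy, rfl⟩, hne⟩ := C.not_isotropic h8
    apply hne
    rw [C.large.b_pr]
    exact hab x (hQD ⟨hx, x.2⟩) y (hQD ⟨hy, y.2⟩)
  -- class two inside `Q`
  have hclQ : SL ≤ Q → ∀ x ∈ SL, ∀ y ∈ SL, ∀ t ∈ SL, (x * y * x⁻¹ * y⁻¹) * t = t * (x * y * x⁻¹ * y⁻¹) := by
    intro h x hx y hy t ht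
    rcases C.large.comm x (h hx) y (h hy) with h1 | h1
    · have e : x * y * x⁻¹ * y⁻¹ = 1 := by rw [h1]; group
      rw [e, one_mul, mul_one]
    · have hxz : Commute x z := C.large.commz (h hx)
      have hyz : Commute y z := C.large.commz (h hy)
      have e : x * y * x⁻¹ * y⁻¹ = z := by
        rw [h1]
        calc y * x * z * x⁻¹ * y⁻¹ = y * (x * z) * x⁻¹ * y⁻¹ := by group
          _ = y * (z * x) * x⁻¹ * y⁻¹ := by rw [hxz.eq]
          _ = (y * z) * y⁻¹ := by group
          _ = z := by rw [hyz.eq]; group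
      rw [e]; exact (hSz t ht.1).symm
  refine ⟨SL, inf_le_right, fun s hs => hSz s hs.1, hzSL, h2, hodd, ?_⟩
  have hr := card_normal_S4 (C.resπ_normal hN)
  rcases C.card_inf hN with h4 | ⟨h8, h16⟩ | h32
  · left
    have hle := C.le_of_card_le hN h4
    rw [inf_eq_left.2 hle] at h4
    have hD2 : IsPGroup 2 D := (isPGroup_Q C).to_le hle
    obtain ⟨m, hm⟩ := IsPGroup.iff_card.1 hD2
    rw [hn, hm] at hcardD
    have hnm : n = m := two_part (l := 1) (by rw [mul_one]; exact hcardD) hoddD odd_one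
    rw [hn, hnm, ← hm]
    exact ⟨h4, rfl⟩
  · rw [h16] at hmul
    rw [hmul, hn] at hcardD
    have hna' := hna (Or.inl h8)
    rcases hr with h | h | h
    · -- order 16
      right; left
      rw [h, Subgroup.card_bot] at hcardD hmul
      have hn4 : n = 4 := two_part (m := 4) (l := 1) (by rw [hcardD]; norm_num) hoddD odd_one
      have hDQ : D ≤ Q := by
        have h1 : (D ⊓ Q : Subgroup G) = D :=
          Subgroup.eq_of_le_of_card_ge inf_le_left (by rw [hmul, h16])
        exact inf_eq_left.1 h1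
      exact ⟨hna', hclQ (hSLD.trans hDQ), Or.inl (by rw [hn, hn4]; norm_num)⟩
    · -- order 64
      right; left
      rw [h.2] at hcardD hmul
      have hn6 : n = 6 := two_part (m := 6) (l := 1) (by rw [hcardD]; norm_num) hoddD odd_one
      have hSLPV : SL ≤ PV π D := by
        intro s hs
        refine ⟨hSLD hs, (hSLD hs).2, ?_⟩
        have h1 : resπ π hN ⟨s, hSLD hs⟩ ∈ (resπ π hN).range := ⟨_, rfl⟩
        rw [h.1] at h1
        exact h1
      have hcl := C.class_two hN h8
      have hSLc : Nat.card SL = 64 := by rw [hn, hn6]; norm_num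
      have hPVc : Nat.card (PV π D) = 64 := by
        have h1 : Nat.card (PV π D) ≤ Nat.card D := Subgroup.card_le_of_le (pv_le D)
        have h3 := Subgroup.card_le_of_le hSLPV
        omega
      have hSLe : SL = PV π D := Subgroup.eq_of_le_of_card_ge hSLPV (by rw [hPVc, hSLc])
      have hNSL : NH z SL := hSLe ▸ pv_nh hN
      refine ⟨hna', fun x hx y hy t ht => hcl x (hSLPV hx) y (hSLPV hy) t (hSLPV ht), Or.inr (Or.inr ⟨hSLc, ?_, Or.inl hmul⟩)⟩
      refine (C.card_le_of_comm (N := SL ⊓ centralizer (SL : Set G)) ⟨fun w hw => hNSL.le w hw.1, ?_⟩ ?_).1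
      · intro c hc w hw
        refine ⟨hNSL.conj c hc w hw.1, mem_centralizer_iff.2 ?_⟩
        intro v hv
        have hcz : Commute c z := hc
        have h1 := hNSL.conj c⁻¹ hcz.inv_left.eq v hv
        have h3 := mem_centralizer_iff.1 hw.2 _ h1
        calc v * (c * w * c⁻¹) = c * ((c⁻¹ * v * c⁻¹⁻¹) * w) * c⁻¹ := by group
          _ = c * (w * (c⁻¹ * v * c⁻¹⁻¹)) * c⁻¹ := by rw [h3]
          _ = c * w * c⁻¹ * v := by group
      · intro u hu v hv
        exact (mem_centralizer_iff.1 hv.2 u hu.1)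
    · rcases h.2 with h12 | h24
      · right; left
        rw [h12] at hcardD hmul
        have hn6 : n = 6 := two_part (m := 6) (l := 3) (by rw [hcardD]; norm_num) hoddD (by decide)
        have hSLPV : SL ≤ PV π D := by
          intro s hs
          refine ⟨hSLD hs, (hSLD hs).2, ?_⟩
          have h1 : resπ π hN ⟨s, hSLD hs⟩ ∈ (resπ π hN).range := ⟨_, rfl⟩
          refine inV_of_mem (C.resπ_normal hN) h.1 h12.le h1 ?_
          obtain ⟨k, hk⟩ := h2 ⟨s, hs⟩
          have e : s ^ 2 ^ k = 1 := by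
            have := congrArg (fun w : SL => (w : G)) hk
            simpa only [Subgroup.coe_pow, Subgroup.coe_one] using this
          have e2 : (⟨s, hSLD hs⟩ : D) ^ 2 ^ k = 1 := Subtype.ext (by
            rw [Subgroup.coe_pow, Subgroup.coe_one]; exact e)
          apply order_two_part (n := k)
          show (resπ π hN ⟨s, hSLD hs⟩) ^ 2 ^ k = 1
          rw [← map_pow, e2, map_one]
        have hcl := C.class_two hN h8
        have hSLc : Nat.card SL = 64 := by rw [hn, hn6]; norm_num
        -- `|PV| = 64`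
        have hPVN : NH z (PV π D) := pv_nh hN
        have hPVc : Nat.card (PV π D) ≤ 64 := by
          have h1 := C.card_eq_mul hPVN
          have h3 : (PV π D ⊓ Q : Subgroup G) ≤ D ⊓ Q := fun w hw => ⟨pv_le D hw.1, hw.2⟩
          have h5 := Subgroup.card_le_of_le h3
          rw [h16] at h5
          have h6 : (resπ π hPVN).range ≤ V4 := by
            rintro _ ⟨w, rfl⟩
            obtain ⟨-, h7, h8⟩ := w.2
            exact h8
          have h7 := Subgroup.card_le_of_le h6
          rw [card_V4] at h7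
          rw [h1]
          calc _ ≤ 16 * 4 := Nat.mul_le_mul h5 h7
            _ = 64 := by norm_num
        have hSLe : SL = PV π D := Subgroup.eq_of_le_of_card_ge hSLPV (by rw [hSLc]; exact hPVc)
        have hNSL : NH z SL := hSLe ▸ pv_nh hN
        refine ⟨hna', fun x hx y hy t ht => hcl x (hSLPV hx) y (hSLPV hy) t (hSLPV ht), Or.inr (Or.inr ⟨hSLc, ?_, Or.inr hmul⟩)⟩
        refine (C.card_le_of_comm (N := SL ⊓ centralizer (SL : Set G)) ⟨fun w hw => hNSL.le w hw.1, ?_⟩ ?_).1
        · intro c hc w hw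
          refine ⟨hNSL.conj c hc w hw.1, mem_centralizer_iff.2 ?_⟩
          intro v hv
          have hcz : Commute c z := hc
          have h1 := hNSL.conj c⁻¹ hcz.inv_left.eq v hv
          have h3 := mem_centralizer_iff.1 hw.2 _ h1
          calc v * (c * w * c⁻¹) = c * ((c⁻¹ * v * c⁻¹⁻¹) * w) * c⁻¹ := by group
            _ = c * (w * (c⁻¹ * v * c⁻¹⁻¹)) * c⁻¹ := by rw [h3]
            _ = c * w * c⁻¹ * v := by group
        · intro u hu v hv
          exact (mem_centralizer_iff.1 hv.2 u hu.1)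
      · right; right; left
        rw [h24] at hcardD
        have hn7 : n = 7 := two_part (m := 7) (l := 3) (by rw [hcardD]; norm_num) hoddD (by decide)
        rw [hn, hn7]; norm_num
  · have hna' := hna (Or.inr h32)
    rw [inf_eq_right.2 h32, C.card] at hmul
    rw [hmul, hn] at hcardD
    rcases hr with h | h | h
    · right; left
      rw [h, Subgroup.card_bot] at hcardD hmul
      have hn5 : n = 5 := two_part (m := 5) (l := 1) (by rw [hcardD]; norm_num) hoddD odd_one
      have hDQ : D ≤ Q := by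
        have h1 : Q = D := Subgroup.eq_of_le_of_card_ge h32 (by rw [hmul, C.card])
        exact h1.ge
      exact ⟨hna', hclQ (hSLD.trans hDQ), Or.inr (Or.inl (by rw [hn, hn5]; norm_num))⟩
    · right; right; left
      rw [h.2] at hcardD
      have hn7 : n = 7 := two_part (m := 7) (l := 1) (by rw [hcardD]; norm_num) hoddD odd_one
      rw [hn, hn7]; norm_num
    · right; right
      rcases h.2 with h12 | h24
      · left
        rw [h12] at hcardD
        have hn7 : n = 7 := two_part (m := 7) (l := 3) (by rw [hcardD]; norm_num) hoddD (by decide)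
        rw [hn, hn7]; norm_num
      · right
        rw [h24] at hcardD
        have hn8 : n = 8 := two_part (m := 8) (l := 3) (by rw [hcardD]; norm_num) hoddD (by decide)
        rw [hn, hn8]; norm_num

end Cfsg.Agent.H319
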