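import Cfsg.Agent.H319.Rank
import Cfsg.Agent.H319.ClassTwoList
import Cfsg.Agent.H319.PslFour
import Cfsg.Agent.S3278
import Cfsg.Agent.S0204
import Cfsg.Agent.S2119
import Cfsg.Agent.LieClassical.FieldTransfer

/-!
# S3237: the simple normal subgroup is `L₃(4)` or has Sylow 2-subgroups of order 128 or 256 (helper319)
-/

set_option autoImplicit false

open Subgroup Cfsg.Agent.Co2Type.Quad

namespace Cfsg.Agent.H319

universe u

variable {G : Type u} [Group G] {Q : Subgroup G} {z : G} {π : ↥(centralizer ({z} : Set G)) →* S4}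

theorem map_cent (L : Subgroup G) {z : G} (hz : z ∈ L) :
    (centralizer ({(⟨z, hz⟩ : L)} : Set L)).map L.subtype = L ⊓ centralizer ({z} : Set G) := by
  ext x
  constructor
  · rintro ⟨y, hy, rfl⟩
    exact ⟨y.2, mem_centralizer_singleton_iff.2 (congrArg Subtype.val (mem_centralizer_singleton_iff.1 hy))⟩
  · rintro ⟨hx, hxz⟩
    exact ⟨⟨x, hx⟩, mem_centralizer_singleton_iff.2 (Subtype.ext (mem_centralizer_singleton_iff.1 hxz)), rfl⟩

theorem card_cent (L : Subgroup G) {z : G} (hz : z ∈ L) :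
    Nat.card (centralizer ({(⟨z, hz⟩ : L)} : Set L)) = Nat.card (L ⊓ centralizer ({z} : Set G) : Subgroup G) := by
  rw [← map_cent L hz, Subgroup.card_map_of_injective L.subtype_injective]

theorem SylData.exists_sylow [Finite G] {L SL : Subgroup G} (h : SylData L z SL) :
    ∃ S : Sylow 2 L, (S : Subgroup L) = SL.subgroupOf L := by
  have hp2 : Fact (Nat.Prime 2) := ⟨Nat.prime_two⟩
  have h1 : IsPGroup 2 (SL.subgroupOf L) := h.two.comap_of_injective _ L.subtype_injective
  have h2 : ¬ 2 ∣ (SL.subgroupOf L).index := by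
    intro h3
    have h4 := h.odd
    rw [Nat.odd_iff] at h4
    change 2 ∣ SL.relIndex L at h3
    omega
  exact ⟨h1.toSylow h2, rfl⟩

theorem card_subgroupOf {SL L : Subgroup G} (h : SL ≤ L) : Nat.card (SL.subgroupOf L) = Nat.card SL :=
  Nat.card_congr (Subgroup.subgroupOfEquivOfLe h).toEquiv

/-- the conjugation action on a normal subgroup with trivial centralizer is faithful -/
theorem conjNormal_injective {L : Subgroup G} [L.Normal] (hc : centralizer (L : Set G) = ⊥) :
    Function.Injective (MulAut.conjNormal (H := L) : G →* MulAut L) := by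
  rw [injective_iff_map_eq_one]
  intro g hg
  have h1 : g ∈ centralizer (L : Set G) := by
    rw [mem_centralizer_iff]
    intro x hx
    have h2 : (MulAut.conjNormal (H := L) g ⟨x, hx⟩ : G) = x := by rw [hg]; rfl
    rw [MulAut.conjNormal_apply] at h2
    calc x * g = (g * x * g⁻¹) * g := by rw [h2]
      _ = g * x := by group
  rw [hc] at h1
  exact mem_bot.1 h1

/-- Sylow 2-subgroups of order at most 4 -/
theorem Conf.false_small [Finite G] (C : Conf Q z π) {L SL : Subgroup G} (hL : L.Normal) (hs : IsSimpleGroup L)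
    (hna : ¬ ∀ u ∈ L, ∀ v ∈ L, u * v = v * u) (hcL : centralizer (L : Set G) = ⊥) (hz : z ∈ L)
    (D : SylData L z SL) (h4 : Nat.card SL ≤ 4)
    (hc : Nat.card (L ⊓ centralizer ({z} : Set G) : Subgroup G) = Nat.card SL) : False := by
  have hp2 : Fact (Nat.Prime 2) := ⟨Nat.prime_two⟩
  obtain ⟨S, hS⟩ := D.exists_sylow
  have hncyc : ¬ IsCyclic L := by
    intro hcy
    apply hna
    intro u hu v hv
    have h1 := hcy
    let _ : CommGroup L := IsCyclic.commGroup
    exact congrArg Subtype.val (mul_comm (⟨u, hu⟩ : L) ⟨v, hv⟩)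
  obtain ⟨E, hE⟩ := S0204.result hncyc
  have hE2 : IsPGroup 2 E := IsPGroup.of_card (n := 2) (by rw [hE.card_four]; norm_num)
  obtain ⟨P, hP⟩ := hE2.exists_le_sylow
  have hSP : Nat.card (P : Subgroup L) = Nat.card (S : Subgroup L) := Nat.card_congr (P.equiv S).toEquiv
  have hS4 : Nat.card (S : Subgroup L) = Nat.card SL := by rw [hS]; exact card_subgroupOf D.le
  have hEP : E = (P : Subgroup L) := by
    refine Subgroup.eq_of_le_of_card_ge hP ?_
    rw [hE.card_four, hSP, hS4]; exact h4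
  have hPK : IsKleinFour (P : Subgroup L) := hEP ▸ hE
  have e : (P : Subgroup L) ≃* (S : Subgroup L) := P.equiv S
  have hSK : IsKleinFour (S : Subgroup L) :=
    { card_four := by rw [← Nat.card_congr e.toEquiv]; exact hPK.card_four
      exponent_two := by rw [← Monoid.exponent_eq_of_mulEquiv e]; exact hPK.exponent_two }
  set zL : L := ⟨z, hz⟩ with hzL
  have hle : (S : Subgroup L) ≤ centralizer ({zL} : Set L) := by
    intro x hx
    rw [hS, mem_subgroupOf] at hx
    exact mem_centralizer_singleton_iff.2 (Subtype.ext (D.cent x hx))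
  have heq : (S : Subgroup L) = centralizer ({zL} : Set L) := by
    refine Subgroup.eq_of_le_of_card_ge hle ?_
    rw [card_cent L hz, hc, hS4]
  have hz2 : orderOf zL = 2 := by
    apply orderOf_eq_prime
    · rw [pow_two]; exact Subtype.ext C.zz
    · intro h; exact C.large.z_ne (congrArg Subtype.val h)
  obtain ⟨f⟩ := S3278.result zL hz2 (S : Subgroup L) hle hSK
    (by rw [heq, Subgroup.relIndex_self]; norm_num)
    (by rw [heq, Subgroup.subgroupOf_self]; infer_instance)
  have h1 : Nat.card (MulAut (alternatingGroup (Fin 5))) = 120 := by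
    rw [← Nat.card_congr (MulEquiv.ofBijective _ (S2119.result 5 (by norm_num) (by norm_num))).toEquiv,
      Nat.card_perm, Nat.card_fin]
    decide
  have h2 : Nat.card (MulAut L) = 120 := by rw [Nat.card_congr (MulAut.congr f).toEquiv, h1]
  have h3 : Nat.card G ≤ Nat.card (MulAut L) := by
    have : Finite (MulAut L) := Nat.finite_of_card_ne_zero (by rw [h2]; norm_num)
    exact Nat.card_le_card_of_injective _ (conjNormal_injective hcL)
  have h4 : Nat.card ↥(centralizer ({z} : Set G)) ≤ Nat.card G := Subgroup.card_le_card_group _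
  rw [C.card_H] at h4
  omega

/-- the class two case -/
theorem Conf.psl_of_classTwo [Finite G] (C : Conf Q z π) {L SL : Subgroup G} (hs : IsSimpleGroup L)
    (hz : z ∈ L) (D : SylData L z SL)
    (hna : ¬ ∀ x ∈ SL, ∀ y ∈ SL, x * y = y * x)
    (hcl : ∀ x ∈ SL, ∀ y ∈ SL, ∀ t ∈ SL, (x * y * x⁻¹ * y⁻¹) * t = t * (x * y * x⁻¹ * y⁻¹))
    (h : Nat.card SL = 16 ∨ Nat.card SL = 32 ∨ (Nat.card SL = 64 ∧
        Nat.card (SL ⊓ centralizer (SL : Set G) : Subgroup G) ≤ 4 ∧
        (Nat.card (L ⊓ centralizer ({z} : Set G) : Subgroup G) = 64 ∨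
          Nat.card (L ⊓ centralizer ({z} : Set G) : Subgroup G) = 192))) :
    ∃ (F : Type) (_ : Field F) (_ : Fintype F), Fintype.card F = 4 ∧
      Nonempty (L ≃* Matrix.ProjectiveSpecialLinearGroup (Fin 3) F) := by
  have hp2 : Fact (Nat.Prime 2) := ⟨Nat.prime_two⟩
  obtain ⟨S, hS⟩ := D.exists_sylow
  have hmem : ∀ x : L, x ∈ (S : Subgroup L) ↔ (x : G) ∈ SL := by
    intro x; rw [hS, mem_subgroupOf]
  have hcard : Nat.card (S : Subgroup L) = Nat.card SL := by rw [hS]; exact card_subgroupOf D.le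
  have hzc : Nat.card ((S : Subgroup L) ⊓ centralizer ((S : Subgroup L) : Set L) : Subgroup L) ≤
      Nat.card (SL ⊓ centralizer (SL : Set G) : Subgroup G) := by
    rw [← Subgroup.card_map_of_injective (f := L.subtype) L.subtype_injective]
    apply Subgroup.card_le_of_le
    rintro _ ⟨x, ⟨hx, hx'⟩, rfl⟩
    refine ⟨(hmem x).1 hx, mem_centralizer_iff.2 fun y hy => ?_⟩
    exact congrArg Subtype.val (mem_centralizer_iff.1 hx' ⟨y, D.le hy⟩ ((hmem _).2 hy))
  refine ClassTwoList.main S ?_ ?_ ?_ (z := ⟨z, hz⟩) (Subtype.ext C.zz)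
    (fun h => C.large.z_ne (congrArg Subtype.val h)) ?_
  · intro h1
    apply hna
    intro x hx y hy
    exact congrArg Subtype.val (h1 ⟨x, D.le hx⟩ ((hmem _).2 hx) ⟨y, D.le hy⟩ ((hmem _).2 hy))
  · intro x hx y hy t ht
    exact Subtype.ext (hcl x ((hmem _).1 hx) y ((hmem _).1 hy) t ((hmem _).1 ht))
  · rw [hcard]
    rcases h with h | h | h
    · exact Or.inl h
    · exact Or.inr (Or.inl h)
    · exact Or.inr (Or.inr ⟨h.1, hzc.trans h.2.1⟩)
  · rw [card_cent L hz, ← C.card_H]
    exact Subgroup.card_dvd_of_le inf_le_right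

/-- the group `G` for `L ≅ L₃(4)` -/
theorem Conf.mulAut_of_psl [Finite G] (C : Conf Q z π) {L : Subgroup G} (hL : L.Normal)
    (hcL : centralizer (L : Set G) = ⊥) (hz : z ∈ L) {F : Type*} [Field F] [Fintype F] (hF : Fintype.card F = 4)
    (e : L ≃* Matrix.ProjectiveSpecialLinearGroup (Fin 3) F) : Nonempty (G ≃* MulAut L) := by
  have hp2 : Fact (Nat.Prime 2) := ⟨Nat.prime_two⟩
  -- `C_L(z)` is a 2-group
  have hz2 : orderOf (⟨z, hz⟩ : L) = 2 := by
    apply orderOf_eq_prime
    · rw [pow_two]; exact Subtype.ext C.zz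
    · intro h; exact C.large.z_ne (congrArg Subtype.val h)
  have h1 : IsPGroup 2 (centralizer ({(⟨z, hz⟩ : L)} : Set L)) := by
    have h2 := PslFour.isPGroup_cent hF (e ⟨z, hz⟩) (by rw [MulEquiv.orderOf_eq]; exact hz2)
    rintro ⟨x, hx⟩
    have h3 : e x ∈ centralizer ({e ⟨z, hz⟩} : Set (Matrix.ProjectiveSpecialLinearGroup (Fin 3) F)) := by
      rw [mem_centralizer_singleton_iff, ← map_mul, ← map_mul, mem_centralizer_singleton_iff.1 hx]
    obtain ⟨k, hk⟩ := h2 ⟨_, h3⟩
    refine ⟨k, Subtype.ext (e.injective ?_)⟩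
    have h4 := congrArg (fun w : centralizer ({e ⟨z, hz⟩} : Set (Matrix.ProjectiveSpecialLinearGroup (Fin 3) F)) =>
      (w : Matrix.ProjectiveSpecialLinearGroup (Fin 3) F)) hk
    rw [Subgroup.coe_pow, map_pow, Subgroup.coe_one, map_one]
    simpa only [Subgroup.coe_pow, Subgroup.coe_one] using h4
  have hL20160 : Nat.card L = 20160 := by
    rw [Nat.card_congr e.toEquiv]
    have h := S0243.result (F := F) hF 3 (by norm_num)
    rw [Fin.prod_univ_three] at h
    norm_num at h
    omega
  have h2 : Nat.card (L ⊓ centralizer ({z} : Set G) : Subgroup G) ≤ 64 := by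
    rw [← card_cent L hz]
    obtain ⟨n, hn⟩ := IsPGroup.iff_card.1 h1
    have h3 : 2 ^ n ∣ 64 * 315 := by
      rw [← hn, show 64 * 315 = 20160 by norm_num, ← hL20160]
      exact Subgroup.card_subgroup_dvd_card _
    have h4 : (2 ^ n).Coprime 315 := Nat.Coprime.pow_left n (by norm_num)
    rw [hn]
    exact Nat.le_of_dvd (by norm_num) (h4.dvd_of_dvd_mul_right h3)
  -- `|G : L| ≥ 12`
  have h3 : 12 ≤ L.index := by
    have h4 : (L ⊓ centralizer ({z} : Set G)).relIndex (centralizer ({z} : Set G)) ≤ L.index := by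
      rw [Subgroup.inf_relIndex_right]
      exact Nat.le_of_dvd (Nat.pos_of_ne_zero Subgroup.index_ne_zero_of_finite) (Subgroup.relIndex_dvd_index_of_normal _ _)
    have h5 := Cfsg.Agent.Lib.SylowNormalInf.card_mul_relIndex (L ⊓ centralizer ({z} : Set G))
      (centralizer ({z} : Set G)) inf_le_right
    rw [C.card_H] at h5
    nlinarith
  have h4 : 12 * Nat.card L ≤ Nat.card G := by
    rw [← L.card_mul_index, mul_comm]
    exact Nat.mul_le_mul_left _ h3
  have h5 : Nat.card (MulAut L) = 12 * Nat.card L := by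
    rw [Nat.card_congr (MulAut.congr e).toEquiv, PslFour.card_aut hF, Nat.card_congr e.toEquiv]
  have hfin : Finite (MulAut L) := Nat.finite_of_card_ne_zero (by rw [h5, hL20160]; norm_num)
  have hinj := conjNormal_injective hcL
  have hbij : Function.Bijective (MulAut.conjNormal (H := L) : G →* MulAut L) := by
    rw [Nat.bijective_iff_injective_and_card]
    refine ⟨hinj, le_antisymm (Nat.card_le_card_of_injective _ hinj) ?_⟩
    rw [h5]; exact h4
  exact ⟨MulEquiv.ofBijective _ hbij⟩

/-- **S3237** except for Sylow 2-subgroups of order 128 and 256 -/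
theorem Conf.main_of [Finite G] (C : Conf Q z π) (hns : ¬ Group.IsSolvable G)
    (hbig : ∀ L SL : Subgroup G, L.Normal → IsSimpleGroup L → (¬ ∀ u ∈ L, ∀ v ∈ L, u * v = v * u) →
      z ∈ L → SylData L z SL → Nat.card SL = 128 ∨ Nat.card SL = 256 → False)
    {F : Type*} [Field F] [Fintype F] (hF : Fintype.card F = 4) :
    Nonempty (G ≃* MulAut (Matrix.GeneralLinearGroup (Fin 3) F ⧸ Subgroup.center (Matrix.GeneralLinearGroup (Fin 3) F))) := by
  obtain ⟨L, hL, hs, hna, hcL, hz⟩ := C.exists_simple hns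
  obtain ⟨SL, D⟩ := C.sylData hL hz
  rcases D.cases with h | h | h
  · exact (C.false_small hL hs hna hcL hz D h.1 h.2).elim
  · obtain ⟨K, _, _, hK, ⟨e⟩⟩ := C.psl_of_classTwo hs hz D h.1 h.2.1 h.2.2
    obtain ⟨e1⟩ := C.mulAut_of_psl hL hcL hz hK e
    let r : K ≃+* F := FiniteField.ringEquivOfCardEq (hK.trans hF.symm)
    obtain ⟨e2⟩ := PslFour.aut_equiv (F := F)
    exact ⟨e1.trans ((MulAut.congr (e.trans (LieClassical.FieldTransfer.pslCongr r))).trans e2)⟩
  · exact (hbig L SL hL hs hna hz D h).elim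

end Cfsg.Agent.H319
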