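import Mathlib

/-!
# The symmetric group of degree four (helper319)

`V4` is the normal four-group; every nontrivial normal subgroup contains it; homomorphisms to the
permutations of at most three points kill it.
-/

set_option autoImplicit false

open Subgroup

namespace Cfsg.Agent.H319

/-- the symmetric group of degree 4 -/
abbrev S4 := Equiv.Perm (Fin 4)

/-- the predicate of the normal four-group -/
def inV (g : S4) : Bool := decide (g = 1) || (decide (g * g = 1) && decide (∀ i, g i ≠ i))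

theorem inV_mul : ∀ a b : S4, inV a = true → inV b = true → inV (a * b) = true := by decide +kernel

theorem inV_inv : ∀ a : S4, inV a = true → inV a⁻¹ = true := by decide +kernel

/-- the normal four-group -/
def V4 : Subgroup S4 where
  carrier := {g | inV g = true}
  mul_mem' {a b} ha hb := inV_mul a b ha hb
  one_mem' := by decide +kernel
  inv_mem' {a} ha := inV_inv a ha

theorem mem_V4 {g : S4} : g ∈ V4 ↔ inV g = true := Iff.rfl

instance instDecMemV4 : DecidablePred (· ∈ V4) := fun g => decidable_of_iff (inV g = true) mem_V4.symm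

theorem card_V4 : Nat.card V4 = 4 := by
  rw [Nat.card_eq_fintype_card]
  decide +kernel

theorem card_S4 : Nat.card S4 = 24 := by
  rw [Nat.card_eq_fintype_card, Fintype.card_perm]
  rfl

theorem not_central : ∀ g : S4, g ≠ 1 → ∃ k, k * g * k⁻¹ ≠ g := by decide +kernel

theorem comm_in_V : ∀ g : S4, g ≠ 1 → ∃ h, (inV (g * h * g⁻¹ * h⁻¹) = true ∧ g * h * g⁻¹ * h⁻¹ ≠ 1) ∨
    ∃ k, inV ((g * h * g⁻¹ * h⁻¹) * k * (g * h * g⁻¹ * h⁻¹)⁻¹ * k⁻¹) = true ∧
      (g * h * g⁻¹ * h⁻¹) * k * (g * h * g⁻¹ * h⁻¹)⁻¹ * k⁻¹ ≠ 1 := by decide +kernel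

theorem conj_V : ∀ v w : S4, inV v = true → inV w = true → v ≠ 1 → w ≠ 1 → ∃ k, k * v * k⁻¹ = w := by
  decide +kernel

/-- every nontrivial normal subgroup contains `V4` -/
theorem V4_le {N : Subgroup S4} (hN : N.Normal) (hne : N ≠ ⊥) : V4 ≤ N := by
  obtain ⟨g, hg, hg1⟩ : ∃ g : S4, g ∈ N ∧ g ≠ 1 := by
    obtain ⟨g, hg⟩ := N.ne_bot_iff_exists_ne_one.1 hne
    exact ⟨g, g.2, fun h1 => hg (Subtype.ext h1)⟩
  have hcomm : ∀ g ∈ N, ∀ h : S4, g * h * g⁻¹ * h⁻¹ ∈ N := by
    intro g hg h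
    have h1 := hN.conj_mem _ (N.inv_mem hg) h
    have h2 := N.mul_mem hg h1
    have e : g * (h * g⁻¹ * h⁻¹) = g * h * g⁻¹ * h⁻¹ := by group
    rwa [e] at h2
  have key : ∃ v ∈ N, inV v = true ∧ v ≠ 1 := by
    obtain ⟨h, h1 | ⟨k, h2⟩⟩ := comm_in_V g hg1
    · exact ⟨_, hcomm g hg h, h1.1, h1.2⟩
    · exact ⟨_, hcomm _ (hcomm g hg h) k, h2.1, h2.2⟩
  obtain ⟨v, hv, hv1, hv2⟩ := key
  intro w hw
  by_cases hw1 : w = 1
  · rw [hw1]; exact N.one_mem
  obtain ⟨k, hk⟩ := conj_V v w hv1 hw hv2 hw1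
  rw [← hk]
  exact hN.conj_mem v hv k

/-- a homomorphism to the permutations of at most three points kills `V4` -/
theorem V4_le_ker {X : Type*} [Finite X] (hX : Nat.card X ≤ 3) (f : S4 →* Equiv.Perm X) : V4 ≤ f.ker := by
  refine V4_le inferInstance ?_
  intro hbot
  have hinj : Function.Injective f := (MonoidHom.ker_eq_bot_iff f).1 hbot
  have h1 : Nat.card S4 ≤ Nat.card (Equiv.Perm X) := Nat.card_le_card_of_injective f hinj
  rw [card_S4] at h1
  have : Fintype X := Fintype.ofFinite X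
  classical
  rw [Nat.card_eq_fintype_card, Fintype.card_perm] at h1
  rw [Nat.card_eq_fintype_card] at hX
  have h2 := Nat.factorial_le hX
  have : Nat.factorial 3 = 6 := rfl
  omega

/-- a homomorphism of `V4`-like type: a class function on `V4` to `ZMod 2` which is additive vanishes -/
theorem exists_three : ∃ g : S4, g ≠ 1 ∧ g * g ≠ 1 ∧ g * g * g = 1 := by decide +kernel

theorem V4_sq : ∀ g : S4, inV g = true → g * g = 1 := by decide +kernel

end Cfsg.Agent.H319
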