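import Cfsg.Agent.H319.NineL
import Cfsg.Agent.H319.CertAlt
import Cfsg.Agent.H319.CertMM
import Cfsg.Agent.H319.RedI
import Cfsg.Agent.H288.SmallRows
import Cfsg.Agent.H583.SecRank
import Cfsg.Agent.GH.FinalKFour
import Cfsg.Agent.S1738
import Cfsg.Agent.S1059
import Cfsg.Agent.SporadicA.MathieuRecog

/-!
# S3237: no simple normal subgroup with Sylow 2-subgroups of order 128 or 256 (helper319)
-/

set_option autoImplicit false

open Subgroup Cfsg.Agent.Co2Type.Quad Cfsg.Agent.GH.Defs

namespace Cfsg.Agent.H319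

universe u

theorem card_dih {X : Type*} [Group X] [Finite X] {S : Subgroup X} {d r : X} (h : Cfsg.Agent.GH.L2Aut.Dih S d r) :
    Nat.card S ≤ orderOf d * 2 := by
  let f : zpowers d × Bool → X := fun p => if p.2 then (p.1 : X) * r else p.1
  have h1 : (S : Set X) ⊆ Set.range f := by
    intro x hx
    rcases h.cov x hx with h1 | ⟨k, rfl⟩
    · exact ⟨(⟨x, h1⟩, false), rfl⟩
    · exact ⟨(⟨d ^ k, zpow_mem_zpowers d k⟩, true), rfl⟩
  calc Nat.card S ≤ Nat.card (Set.range f) := Nat.card_mono (Set.toFinite _) h1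
    _ ≤ Nat.card (zpowers d × Bool) := Finite.card_range_le f
    _ = _ := by rw [Nat.card_prod, Nat.card_zpowers, Nat.card_eq_fintype_card (α := Bool), Fintype.card_bool]

variable {G : Type u} [Group G] {Q : Subgroup G} {z : G} {π : ↥(centralizer ({z} : Set G)) →* S4}

theorem Conf.pow_sixteen (C : Conf Q z π) {g : G} (hg : g * z = z * g) {n : ℕ} (h : g ^ 2 ^ n = 1) : g ^ 16 = 1 := by
  let c : ↥(centralizer ({z} : Set G)) := ⟨g, mem_centralizer_singleton_iff.2 hg⟩
  have h1 : (π c) ^ 2 ^ n = 1 := by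
    rw [← map_pow, show c ^ 2 ^ n = 1 from Subtype.ext h, map_one]
  have h2 := order_two_part h1
  have h3 : g * g * (g * g) ∈ Q := by
    refine (C.ker (c * c * (c * c))).1 ?_
    rw [map_mul, map_mul]
    exact h2
  have e : g * g * (g * g) = g ^ 4 := by rw [← pow_two g, ← pow_add]
  rw [e] at h3
  have e2 : g ^ 16 = (g ^ 4 * g ^ 4) * (g ^ 4 * g ^ 4) := by rw [← pow_add, ← pow_add]
  rw [e2]
  rcases C.large.sq _ h3 with h4 | h4
  · rw [h4, mul_one]
  · rw [h4, C.zz]

/-- `PSL₂(q)` -/
theorem Conf.false_l2 [Finite G] (C : Conf Q z π) {L SL : Subgroup G} (D : SylData L z SL)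
    (h : 128 ≤ Nat.card SL) (hL : IsL2odd L) : False := by
  have hp2 : Fact (Nat.Prime 2) := ⟨Nat.prime_two⟩
  have hD := Cfsg.Agent.GH.Cov.QuatTop.dihTop_of_isL2odd hL
  obtain ⟨S₁, d, r, hd⟩ := hD.syl
  obtain ⟨S, hS⟩ := D.exists_sylow
  have hcard : Nat.card (S₁ : Subgroup L) = Nat.card SL := by
    rw [Nat.card_congr (S₁.equiv S).toEquiv, hS]
    exact card_subgroupOf D.le
  have h1 := card_dih hd
  -- the order of `d`
  have h2 : d ^ 16 = 1 := by
    obtain ⟨g, hg⟩ := MulAction.exists_smul_eq L S₁ S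
    have h3 : g * d * g⁻¹ ∈ (S : Subgroup L) := by
      rw [← hg]
      exact ⟨d, hd.d_mem, rfl⟩
    obtain ⟨n, hn⟩ := S.isPGroup' ⟨_, h3⟩
    have hn' : (g * d * g⁻¹) ^ 2 ^ n = 1 := congrArg Subtype.val hn
    rw [hS, mem_subgroupOf] at h3
    have h4 : ((g * d * g⁻¹ : L) : G) ^ 16 = 1 :=
      C.pow_sixteen (D.cent _ h3) (n := n) (by rw [← Subgroup.coe_pow, hn']; rfl)
    have h5 : (g * d * g⁻¹) ^ 16 = 1 := Subtype.ext (by rw [Subgroup.coe_pow, h4]; rfl)
    rw [conj_pow] at h5
    have h6 : d ^ 16 = g⁻¹ * (g * d ^ 16 * g⁻¹) * g := by group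
    rw [h6, h5]; group
  have h3 := Nat.le_of_dvd (by norm_num) (orderOf_dvd_of_pow_eq_one h2)
  omega

theorem nine_transfer {X Y : Type*} [Group X] [Group Y] (e : X ≃* Y) {t : X}
    (h : 9 ∣ Nat.card (centralizer ({e t} : Set Y))) : 9 ∣ Nat.card (centralizer ({t} : Set X)) := by
  have h1 : (centralizer ({t} : Set X)).map e.toMonoidHom = centralizer ({e t} : Set Y) := by
    ext y
    constructor
    · rintro ⟨x, hx, rfl⟩
      rw [mem_centralizer_singleton_iff]
      change e x * e t = e t * e x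
      rw [← map_mul, mem_centralizer_singleton_iff.1 hx, map_mul]
    · intro hy
      refine ⟨e.symm y, ?_, e.apply_symm_apply y⟩
      change e.symm y ∈ centralizer ({t} : Set X)
      rw [mem_centralizer_singleton_iff]
      apply e.injective
      rw [map_mul, map_mul, e.apply_symm_apply]
      exact mem_centralizer_singleton_iff.1 hy
  rw [← h1, Subgroup.card_map_of_injective (f := e.toMonoidHom) e.injective] at h
  exact h

theorem Cert.congr {X Y : Type*} [Group X] [Group Y] (e : X ≃* Y) {t : X} (h : Cert (e t)) : Cert t := by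
  have h1 := h.map (e.symm : Y →* X) e.symm.injective
  have h2 : (e.symm : Y →* X) (e t) = t := e.symm_apply_apply t
  rwa [h2] at h1

/-- **The table.** -/
theorem Conf.false_big [Finite G] (C : Conf Q z π) {L SL : Subgroup G} (hL : L.Normal) (hs : IsSimpleGroup L)
    (hna : ¬ ∀ u ∈ L, ∀ v ∈ L, u * v = v * u) (hz : z ∈ L) (D : SylData L z SL)
    (h : Nat.card SL = 128 ∨ Nat.card SL = 256) : False := by
  have hp2 : Fact (Nat.Prime 2) := ⟨Nat.prime_two⟩
  have h128 : 128 ≤ Nat.card SL := by omega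
  have hna' : ¬ IsMulCommutative L := fun hc => hna fun u hu v hv =>
    congrArg Subtype.val (hc.is_comm.comm (⟨u, hu⟩ : L) ⟨v, hv⟩)
  have h4 : Cfsg.SectionalPRankLE 2 4 L := Cfsg.Agent.H583.SecRank.sectional_subgroup C.sectional L
  obtain ⟨S, hS⟩ := D.exists_sylow
  set t : L := ⟨z, hz⟩ with htdef
  have ht1 : t ≠ 1 := fun h => C.large.z_ne (congrArg Subtype.val h)
  have htt : t * t = 1 := Subtype.ext C.zz
  have ht2 : orderOf t = 2 := orderOf_eq_prime (by rw [pow_two]; exact htt) ht1
  have ht : Cfsg.IsTwoCentralInvolution t := by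
    refine ⟨ht2, S, ?_, ?_⟩
    · change t ∈ (S : Subgroup L)
      rw [hS, mem_subgroupOf]
      exact D.z_mem
    · intro x hx
      change x ∈ (S : Subgroup L) at hx
      rw [hS, mem_subgroupOf] at hx
      exact Subtype.ext (D.cent x hx)
  -- the centralizer
  have hcle : L ⊓ centralizer ({z} : Set G) ≤ centralizer ({z} : Set G) := inf_le_right
  have hsol : Group.IsSolvable ↥(centralizer ({t} : Set L)) := by
    have h1 := C.solvable_H
    let f : ↥(centralizer ({t} : Set L)) →* ↥(centralizer ({z} : Set G)) :=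
      { toFun := fun x => ⟨((x : L) : G), mem_centralizer_singleton_iff.2
          (congrArg Subtype.val (mem_centralizer_singleton_iff.1 x.2))⟩
        map_one' := rfl
        map_mul' := fun _ _ => rfl }
    exact Group.isSolvable_of_isSolvable_injective (f := f) (by
      intro a b hab
      exact Subtype.ext (Subtype.ext (congrArg (fun x : ↥(centralizer ({z} : Set G)) => (x : G)) hab)))
  have h9 : ¬ 9 ∣ Nat.card (centralizer ({t} : Set L)) := by
    intro h1
    rw [card_cent L hz] at h1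
    have h2 := h1.trans (Subgroup.card_dvd_of_le hcle)
    rw [C.card_H] at h2
    norm_num at h2
  -- the order
  have hdvd : 128 ∣ Nat.card L := by
    have h1 := Subgroup.card_dvd_of_le D.le
    rcases h with h | h
    · rwa [h] at h1
    · rw [h] at h1
      exact Dvd.dvd.trans (by norm_num) h1
  have hcase : ¬ 256 ∣ Nat.card L → Nat.card SL = 128 := by
    intro h1
    rcases h with h | h
    · exact h
    · exact absurd (h ▸ Subgroup.card_dvd_of_le D.le) h1
  have hcert : ¬ 256 ∣ Nat.card L → ¬ Cert t := fun h1 h2 => C.false_of_cert hL hz D (hcase h1) h2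
  have hb : ¬ Cfsg.Agent.H288.KillLong.Bad t := fun h => h.not_solvable hsol
  have h1738 : Cfsg.Agent.GH.AltOut.St1738 L := Cfsg.Agent.S1738.result
  have hE8 : ¬ Cfsg.Agent.GH.EFrameMain.SylE8 L := fun h1 =>
    Cfsg.Agent.H288.SmallRows.sylE8_not h1 (Dvd.dvd.trans (by norm_num) hdvd)
  rcases Cfsg.Agent.H288.Rest.rest_of_not_bad (Cfsg.Agent.GH.FinalKFour.k4 L hna' h4) ht hb with
    h | h | h | h | h | h | h | h | h | h | h | h | h | h | h | h | h | h | h | h | h | h | h | h
  · exact C.false_l2 D h128 h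
  · obtain ⟨F, _, _, hF, ⟨e⟩⟩ := h
    rw [Nat.card_congr e.toEquiv, Cfsg.Agent.SmallSimple.PSLFacts.card_psl_three_three hF] at hdvd
    norm_num at hdvd
  · obtain ⟨F, _, _, hF, ⟨e⟩⟩ := h
    rw [Nat.card_congr e.toEquiv, Cfsg.Agent.SmallSimple.PSLFacts.card_psu_three_three (by rw [hF]; norm_num)] at hdvd
    norm_num at hdvd
  · obtain ⟨F, _, _, hF, ⟨e⟩⟩ := h
    have hc : Nat.card L = 62400 := by
      rw [Nat.card_congr e.toEquiv]
      have h := Cfsg.Agent.S0280.result (F := F) (q := 4) (by rw [hF]; norm_num) 3 (by norm_num)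
      norm_num [Finset.prod_range_succ, Nat.even_iff] at h
      omega
    rw [hc] at hdvd
    norm_num at hdvd
  · have h2 := Cfsg.Agent.H288.SmallRows.card_alt 7 (by norm_num) h
    have h3 : Nat.card L = 2520 := by
      have : Nat.factorial 7 = 5040 := by decide
      omega
    rw [h3] at hdvd
    norm_num at hdvd
  · rw [Cfsg.Agent.GH.L3S.WorldOf.card_of_isoM11 h] at hdvd
    norm_num at hdvd
  · exact hE8 (Cfsg.Agent.GH.EFrameTops.sylE8_L28 h)
  · rw [(Cfsg.Agent.GH.FinalLit.isSz8 h).2] at hdvd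
    norm_num at hdvd
  · exact hE8 (Cfsg.Agent.GH.EFrameTops.sylE8_ree h)
  · exact hE8 (Cfsg.Agent.GH.EFrameTops.sylE8_J1 h)
  · obtain ⟨F, _, _, hF, ⟨e⟩⟩ := h
    have hc : Nat.card L = 4080 := by
      rw [Nat.card_congr e.toEquiv]
      have h1 := Cfsg.Agent.S0243.result hF 2 le_rfl
      rw [Fin.prod_univ_two] at h1
      norm_num at h1
      omega
    rw [hc] at hdvd
    norm_num at hdvd
  · obtain ⟨F, _, _, hF, ⟨e⟩⟩ := h
    have hc : Nat.card L = 20160 := by
      rw [Nat.card_congr e.toEquiv]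
      have h1 := Cfsg.Agent.S0243.result hF 3 (by norm_num)
      rw [Fin.prod_univ_three] at h1
      norm_num at h1
      omega
    rw [hc] at hdvd
    norm_num at hdvd
  · obtain ⟨n, h8, h11, h⟩ := h
    have h2 := Cfsg.Agent.H288.SmallRows.card_alt n (by omega) h
    obtain rfl | rfl | rfl | rfl : n = 8 ∨ n = 9 ∨ n = 10 ∨ n = 11 := by omega
    · have h3 : Nat.card L = 20160 := by
        have : Nat.factorial 8 = 40320 := by decide
        omega
      rw [h3] at hdvd
      norm_num at hdvd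
    · have h3 : Nat.card L = 181440 := by
        have : Nat.factorial 9 = 362880 := by decide
        omega
      rw [h3] at hdvd
      norm_num at hdvd
    · have h3 : Nat.card L = 1814400 := by
        have : Nat.factorial 10 = 3628800 := by decide
        omega
      obtain ⟨e⟩ := h
      refine hcert (by rw [h3]; norm_num) (Cert.congr e ?_)
      exact CertAlt.alt 0 (by norm_num) (e t) (by rw [← map_mul, htt, map_one])
        (fun h => ht1 (e.injective (by rw [h, map_one])))
    · have h3 : Nat.card L = 19958400 := by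
        have : Nat.factorial 11 = 39916800 := by decide
        omega
      obtain ⟨e⟩ := h
      refine hcert (by rw [h3]; norm_num) (Cert.congr e ?_)
      exact CertAlt.alt 1 (by norm_num) (e t) (by rw [← map_mul, htt, map_one])
        (fun h => ht1 (e.injective (by rw [h, map_one])))
  · obtain ⟨F, _, _, hF, ⟨e⟩⟩ := h
    rw [Nat.card_congr e.toEquiv, Cfsg.Agent.SmallSimple.PSLFacts.card_psp_two_three hF] at hdvd
    norm_num at hdvd
  · obtain ⟨F, _, _, hF, ⟨e⟩⟩ := h
    exact h9 (nine_transfer e (NineDvd.l43 hF (e t) (by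
      rw [← ht2]; exact orderOf_injective e.toMonoidHom e.injective t)))
  · obtain ⟨F, _, _, hF, ⟨e⟩⟩ := h
    exact h9 (nine_transfer e (NineDvd.u43 (by rw [hF]; norm_num) (e t) (by
      rw [← ht2]; exact orderOf_injective e.toMonoidHom e.injective t)))
  · exact (Cfsg.Agent.H288.CompRows.psl5 h ht2).not_solvable hsol
  · obtain ⟨F, _, _, hF, ⟨e⟩⟩ := h
    rw [Nat.card_congr e.toEquiv, Cfsg.Agent.S1059.result hF] at hdvd
    norm_num at hdvd
  · obtain ⟨e⟩ := h
    rw [Nat.card_congr e.toEquiv, Cfsg.Agent.MTwelveType.SylowModel.card_M12] at hdvd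
    norm_num at hdvd
  · obtain ⟨e⟩ := h
    have hc : Nat.card L = 443520 := by
      rw [Nat.card_congr e.toEquiv, Cfsg.Agent.SporadicA.MathieuRecog.card_M22]
    refine hcert (by rw [hc]; norm_num) (Cert.congr e ?_)
    exact CertMM.m22 (e t) (by rw [← map_mul, htt, map_one]) (fun h => ht1 (e.injective (by rw [h, map_one])))
  · exact Cfsg.Agent.H288.SporM23.m23 h ht2 hsol
  · exact Cfsg.Agent.H288.SporJ.j2 h ht hsol
  · exact Cfsg.Agent.H288.SporJ.j3 h ht2 hsol
  · exact (Cfsg.Agent.H288.CompRows.alt hna' h1738 h ht2).not_solvable hsol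

end Cfsg.Agent.H319
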