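import Cfsg.Agent.Co2Type.Quad
import Cfsg.Agent.H319.SFour

/-!
# `C_G(z)` with a normal extraspecial group of order 32 of minus type and quotient `S₄` (helper319)

`Conf Q z π`: `Q` is extraspecial of order 32 without elementary abelian subgroups of order 8, normal in `C_G(z)`,
`C_{C(z)}(Q) ≤ Q`, `π : C_G(z) → S₄` surjective with kernel `Q`. Normal subgroups `N` of `C_G(z)`:
`|N ∩ Q| ≤ 4` implies `N ≤ Q`; `|N ∩ Q| ≠ 8`; ...
-/

set_option autoImplicit false

open Subgroup Cfsg.Agent.Co2Type.Quad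

namespace Cfsg.Agent.H319

variable {G : Type*} [Group G] {Q : Subgroup G} {z : G}

/-- the configuration of S3237 -/
structure Conf (Q : Subgroup G) (z : G) (π : ↥(centralizer ({z} : Set G)) →* S4) : Prop where
  large : Large Q z
  card : Nat.card Q = 32
  minus : ∀ A : Subgroup G, A ≤ Q → (∀ a ∈ A, a * a = 1) → Nat.card A ≠ 8
  surj : Function.Surjective π
  ker : ∀ c, π c = 1 ↔ (c : G) ∈ Q

/-- `N` is a normal subgroup of `C_G(z)` -/
structure NH (z : G) (N : Subgroup G) : Prop where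
  le : ∀ n ∈ N, n * z = z * n
  conj : ∀ c, c * z = z * c → ∀ n ∈ N, c * n * c⁻¹ ∈ N

theorem NH.inf {N M : Subgroup G} (hN : NH z N) (hM : NH z M) : NH z (N ⊓ M) :=
  ⟨fun n hn => hN.le n hn.1, fun c hc n hn => ⟨hN.conj c hc n hn.1, hM.conj c hc n hn.2⟩⟩

theorem nh_Q (h : Large Q z) : NH z Q := ⟨h.comm_z, h.conj_mem⟩

theorem NH.comm_mem {N : Subgroup G} (hN : NH z N) {n x : G} (hn : n ∈ N) (hx : x * z = z * x) :
    n * x * n⁻¹ * x⁻¹ ∈ N := by
  have h1 := hN.conj x hx _ (N.inv_mem hn)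
  have h2 := N.mul_mem hn h1
  have e : n * (x * n⁻¹ * x⁻¹) = n * x * n⁻¹ * x⁻¹ := by group
  rwa [e] at h2

/-- the image of `N ∩ Q` in `V` -/
def WN (h : Large Q z) (N : Subgroup G) : Submodule (ZMod 2) h.V where
  carrier := {v | ∃ x : Q, (x : G) ∈ N ∧ h.pr x = v}
  add_mem' := by
    rintro a b ⟨x, hx, rfl⟩ ⟨y, hy, rfl⟩
    exact ⟨x * y, N.mul_mem hx hy, h.pr_mul x y⟩
  zero_mem' := ⟨1, N.one_mem, h.pr_one⟩
  smul_mem' := by
    rintro c v ⟨x, hx, rfl⟩
    have hc : c = 0 ∨ c = 1 := by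
      have : ∀ c : ZMod 2, c = 0 ∨ c = 1 := by decide
      exact this c
    rcases hc with rfl | rfl
    · exact ⟨1, N.one_mem, by rw [zero_smul]; exact h.pr_one⟩
    · exact ⟨x, hx, by rw [one_smul]⟩

theorem mem_WN (h : Large Q z) {N : Subgroup G} {v : h.V} : v ∈ WN h N ↔ ∃ x : Q, (x : G) ∈ N ∧ h.pr x = v := Iff.rfl

theorem pr_mem_WN (h : Large Q z) {N : Subgroup G} (hz : z ∈ N) {x : Q} : h.pr x ∈ WN h N ↔ (x : G) ∈ N := by
  constructor
  · rintro ⟨y, hy, he⟩
    rcases (h.pr_eq_pr.1 he) with h1 | h1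
    · rwa [← h1]
    · have : (x : G) = y * z⁻¹ := by rw [h1]; group
      rw [this]
      exact N.mul_mem hy (N.inv_mem hz)
  · intro hx
    exact ⟨x, hx, rfl⟩

theorem act_mem_WN (h : Large Q z) {N : Subgroup G} (hN : NH z N) (c : ↥(centralizer ({z} : Set G))) {v : h.V}
    (hv : v ∈ WN h N) : h.act c v ∈ WN h N := by
  obtain ⟨x, hx, rfl⟩ := hv
  rw [h.act_pr]
  exact ⟨h.conjQ c x, hN.conj c (mem_centralizer_singleton_iff.1 c.2) x hx, rfl⟩

/-- a nontrivial normal subgroup of `C(z)` contains `z` -/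
theorem z_mem (h : Large Q z) {N : Subgroup G} (hN : NH z N) (hne : N ≠ ⊥) : z ∈ N := by
  have key : ∀ n ∈ N, n ∈ Q → n ≠ 1 → z ∈ N := by
    intro n hn hnQ hn1
    by_cases hnz : n = z
    · rwa [hnz] at hn
    have : ¬ ∀ y ∈ Q, n * y = y * n := fun hc => by
      rcases h.cent n hnQ hc with h1 | h1
      · exact hn1 h1
      · exact hnz h1
    push Not at this
    obtain ⟨y, hy, hne⟩ := this
    have h2 := (h.comm n hnQ y hy).resolve_left hne
    have h3 := hN.comm_mem hn (h.comm_z y hy)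
    have e : n * y * n⁻¹ * y⁻¹ = z := by
      rw [h2]
      have : z * n⁻¹ = n⁻¹ * z := ((h.commz hnQ).inv_left.eq).symm
      have hyz : z * y⁻¹ = y⁻¹ * z := ((h.commz hy).inv_left.eq).symm
      calc y * n * z * n⁻¹ * y⁻¹ = y * n * (z * n⁻¹) * y⁻¹ := by group
        _ = y * n * (n⁻¹ * z) * y⁻¹ := by rw [this]
        _ = y * (z * y⁻¹) := by group
        _ = y * (y⁻¹ * z) := by rw [hyz]
        _ = z := by group
    rwa [e] at h3
  obtain ⟨n, hn, hn1⟩ : ∃ n ∈ N, n ≠ 1 := by
    obtain ⟨g, hg⟩ := N.ne_bot_iff_exists_ne_one.1 hne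
    exact ⟨g, g.2, fun h1 => hg (Subtype.ext h1)⟩
  by_cases hnQ : n ∈ Q
  · exact key n hn hnQ hn1
  have : ¬ ∀ x ∈ Q, n * x = x * n := fun hc => hnQ (h.self n (hN.le n hn) hc)
  push Not at this
  obtain ⟨x, hx, hne⟩ := this
  refine key (n * x * n⁻¹ * x⁻¹) (hN.comm_mem hn (h.comm_z x hx)) ?_ ?_
  · exact Q.mul_mem (h.conj_mem n (hN.le n hn) x hx) (Q.inv_mem hx)
  · intro he
    apply hne
    rw [mul_inv_eq_one, mul_inv_eq_iff_eq_mul] at he
    exact he

/-- cardinalities -/
theorem card_WN [Finite Q] (h : Large Q z) {N : Subgroup G} (hz : z ∈ N) :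
    Nat.card (N ⊓ Q : Subgroup G) = 2 * Nat.card (WN h N) := by
  classical
  -- the map `N ∩ Q → WN`
  let f : ↥(N ⊓ Q : Subgroup G) → WN h N := fun x => ⟨h.pr ⟨x, x.2.2⟩, ⟨⟨x, x.2.2⟩, x.2.1, rfl⟩⟩
  have hf : Function.Surjective f := by
    rintro ⟨v, x, hx, rfl⟩
    exact ⟨⟨x, hx, x.2⟩, rfl⟩
  have : Finite ↥(N ⊓ Q : Subgroup G) := Finite.of_injective (fun x => (⟨x, x.2.2⟩ : Q)) (fun a b hab => by
    apply Subtype.ext
    exact congrArg (fun t : Q => (t : G)) hab)
  let M : Subgroup ↥(N ⊓ Q : Subgroup G) := Subgroup.zpowers ⟨z, hz, h.z_mem⟩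
  have hM : Nat.card M = 2 := by
    rw [Nat.card_zpowers]
    rw [orderOf_eq_prime_iff (p := 2)]
    refine ⟨?_, fun h1 => h.z_ne (congrArg Subtype.val h1)⟩
    apply Subtype.ext
    show z ^ 2 = 1
    rw [pow_two]; exact h.z_sq
  have hfib : ∀ x y : ↥(N ⊓ Q : Subgroup G), f x = f y ↔ (QuotientGroup.mk x : _ ⧸ M) = QuotientGroup.mk y := by
    intro x y
    rw [QuotientGroup.eq]
    have h1 : f x = f y ↔ h.pr ⟨x, x.2.2⟩ = h.pr ⟨y, y.2.2⟩ := by
      constructor
      · intro he; exact congrArg Subtype.val he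
      · intro he; exact Subtype.ext he
    rw [h1, h.pr_eq_pr]
    show ((x : G) = y ∨ (x : G) = y * z) ↔ _
    have hMm : ∀ u : ↥(N ⊓ Q : Subgroup G), u ∈ M ↔ (u : G) = 1 ∨ (u : G) = z := by
      intro u
      constructor
      · intro hu
        obtain ⟨k, hk⟩ := Subgroup.mem_zpowers_iff.1 hu
        have h2 : (u : G) = z ^ k := by rw [← hk]; rfl
        rcases Int.even_or_odd' k with ⟨m, rfl | rfl⟩
        · left; rw [h2, zpow_mul, show z ^ (2 : ℤ) = 1 by rw [zpow_two]; exact h.z_sq, one_zpow]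
        · right; rw [h2, zpow_add, zpow_mul, show z ^ (2 : ℤ) = 1 by rw [zpow_two]; exact h.z_sq, one_zpow, one_mul, zpow_one]
      · rintro (hu | hu)
        · have : u = 1 := Subtype.ext hu
          rw [this]; exact M.one_mem
        · have : u = ⟨z, hz, h.z_mem⟩ := Subtype.ext hu
          rw [this]; exact Subgroup.mem_zpowers _
    rw [hMm]
    show _ ↔ (x : G)⁻¹ * y = 1 ∨ (x : G)⁻¹ * y = z
    have hxz := h.commz x.2.2
    constructor
    · rintro (h2 | h2)
      · left; rw [h2]; group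
      · right
        have : (y : G) = x * z := by
          rw [h2, mul_assoc, h.z_sq, mul_one]
        rw [this]; group
    · rintro (h2 | h2)
      · left; exact inv_mul_eq_one.1 h2
      · right
        have : (y : G) = x * z := by rw [← h2]; group
        rw [this, mul_assoc, h.z_sq, mul_one]
  let e : (↥(N ⊓ Q : Subgroup G) ⧸ M) ≃ WN h N :=
    Equiv.ofBijective (Quotient.lift f (fun x y hxy => (hfib x y).2 (Quotient.sound hxy))) (by
      constructor
      · intro a b hab
        induction a using QuotientGroup.induction_on with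
        | H x =>
          induction b using QuotientGroup.induction_on with
          | H y => exact (hfib x y).1 hab
      · intro w
        obtain ⟨x, hx⟩ := hf w
        exact ⟨QuotientGroup.mk x, hx⟩)
  rw [Subgroup.card_eq_card_quotient_mul_card_subgroup M, hM, Nat.card_congr e, mul_comm]

variable {π : ↥(centralizer ({z} : Set G)) →* S4}

theorem Conf.finiteQ (C : Conf Q z π) : Finite Q := Nat.finite_of_card_ne_zero (by rw [C.card]; norm_num)

theorem Conf.card_V (C : Conf Q z π) : Nat.card C.large.V = 16 := by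
  have := C.large.card_eq
  rw [C.card] at this
  omega

/-- elements acting trivially on `V` are in the kernel -/
theorem Conf.pi_eq_one (C : Conf Q z π) {c : ↥(centralizer ({z} : Set G))} (hc : ∀ v, C.large.act c v = v) :
    π c = 1 := by
  have := C.finiteQ
  rw [C.ker]
  exact C.large.mem_of_act c (by ext v; exact hc v)

theorem Conf.act_eq_of_pi (C : Conf Q z π) {c d : ↥(centralizer ({z} : Set G))} (hc : π c = π d) (v : C.large.V) :
    C.large.act c v = C.large.act d v := by
  have h1 : π (d⁻¹ * c) = 1 := by rw [map_mul, map_inv, hc, inv_mul_cancel]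
  have h2 := C.large.act_mem _ ((C.ker _).1 h1)
  have h3 : C.large.act c = C.large.act d * C.large.act (d⁻¹ * c) := by
    rw [← map_mul, mul_inv_cancel_left]
  rw [h3, h2, mul_one]

/-- **F1**: a normal subgroup `N` of `C(z)` with `|N ∩ Q| ≤ 4` lies in `Q`. -/
theorem Conf.le_of_card_le (C : Conf Q z π) {N : Subgroup G} (hN : NH z N)
    (h4 : Nat.card (N ⊓ Q : Subgroup G) ≤ 4) : N ≤ Q := by
  classical
  have := C.finiteQ
  set h := C.large with hh
  by_cases hne : N = ⊥
  · rw [hne]; exact bot_le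
  have hz := z_mem h hN hne
  have hW : Nat.card (WN h N) ≤ 2 := by
    have := card_WN h hz
    omega
  have hVf : Finite h.V := inferInstance
  have hsub : ∀ a b : h.V, a ∈ WN h N → b ∈ WN h N → a ≠ 0 → b ≠ 0 → a = b := by
    intro a b ha hb ha0 hb0
    by_contra hab
    have h3 : 2 < Nat.card (WN h N) := by
      have hfin : Fintype (WN h N) := Fintype.ofFinite _
      rw [Nat.card_eq_fintype_card, Fintype.two_lt_card_iff]
      exact ⟨⟨a, ha⟩, ⟨b, hb⟩, 0, fun he => hab (congrArg Subtype.val he),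
        fun he => ha0 (congrArg Subtype.val he), fun he => hb0 (congrArg Subtype.val he)⟩
    omega
  -- the action of `n ∈ N`
  have hact : ∀ n : ↥(centralizer ({z} : Set G)), (n : G) ∈ N → ∀ v, h.act n v + v ∈ WN h N := by
    intro n hn v
    obtain ⟨x, rfl⟩ := h.pr_surjective v
    rw [h.act_pr]
    refine ⟨h.conjQ n x * x⁻¹, ?_, ?_⟩
    · show (n : G) * x * (n : G)⁻¹ * (x : G)⁻¹ ∈ N
      exact hN.comm_mem hn (h.comm_z x x.2)
    · rw [h.pr_mul, h.pr_inv, h.neg_eq]
  -- two elements acting nontrivially act in the same way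
  have hsame : ∀ n : ↥(centralizer ({z} : Set G)), (n : G) ∈ N → (∃ v, h.act n v ≠ v) →
      ∃ w ∈ WN h N, w ≠ 0 ∧ ∀ u, h.act n u = u + (h.b u w) • w := by
    rintro n hn ⟨v, hv⟩
    have hw0 : h.act n v + v ≠ 0 := by
      intro he
      apply hv
      rw [← sub_eq_zero, sub_eq_add_neg, h.neg_eq]; exact he
    refine ⟨h.act n v + v, hact n hn v, hw0, ?_⟩
    set w := h.act n v + v with hw
    have hnv : h.act n v = v + w := by
      rw [hw, add_comm (h.act n v) v, ← add_assoc, h.add_self, zero_add]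
    have hcase : ∀ u, h.act n u = u ∨ h.act n u = u + w := by
      intro u
      by_cases hu : h.act n u + u = 0
      · left
        rw [← sub_eq_zero, sub_eq_add_neg, h.neg_eq]; exact hu
      · right
        have h1 := hsub _ _ (hact n hn u) (hact n hn v) hu hw0
        have h2 : h.act n u + u + u = w + u := by rw [h1]
        rw [add_assoc, h.add_self, add_zero] at h2
        rw [h2, add_comm]
    have h01 : ∀ a : ZMod 2, a = 0 ∨ a = 1 := by decide
    -- `b(w, v) = 1`
    have hbw : h.b w w = 0 := h.b_self w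
    have hrel : ∀ u, h.act n u = u → h.b u w = 0 := by
      intro u hu
      have h1 := h.b_act n u v
      rw [hu, hnv, map_add] at h1
      exact add_eq_left.1 h1
    have hrel2 : ∀ u, h.act n u = u + w → h.b u w = h.b v w := by
      intro u hu
      have h1 := h.b_act n u v
      rw [hu, hnv] at h1
      simp only [map_add, LinearMap.add_apply] at h1
      rw [hbw, add_zero] at h1
      have h3 : h.b u w + h.b w v = 0 := by
        generalize h.b u v = a at h1
        generalize h.b u w = b at h1 ⊢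
        generalize h.b w v = c at h1 ⊢
        revert h1
        revert a b c
        decide
      rw [h.b_comm w v] at h3
      have : ∀ a b : ZMod 2, a + b = 0 → a = b := by decide
      exact this _ _ h3
    have hv1 : h.b v w = 1 := by
      rcases h01 (h.b v w) with h1 | h1
      · exfalso
        apply hw0
        apply h.b_nondeg
        intro u
        rw [h.b_comm]
        rcases hcase u with h2 | h2
        · exact hrel u h2
        · rw [hrel2 u h2, h1]
      · exact h1
    intro u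
    rcases hcase u with h2 | h2
    · rw [hrel u h2, zero_smul, add_zero, h2]
    · rw [hrel2 u h2, hv1, one_smul, h2]
  -- the image of `N` in `S₄` has at most one nontrivial element
  intro n hn
  by_contra hnQ
  have hnz : n ∈ centralizer ({z} : Set G) := mem_centralizer_singleton_iff.2 (hN.le n hn)
  set n' : ↥(centralizer ({z} : Set G)) := ⟨n, hnz⟩ with hn'
  have hπ : π n' ≠ 1 := fun he => hnQ ((C.ker n').1 he)
  obtain ⟨k, hk⟩ := not_central (π n') hπ
  obtain ⟨c, rfl⟩ := C.surj k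
  have hex : ∀ m : ↥(centralizer ({z} : Set G)), π m ≠ 1 → ∃ v, h.act m v ≠ v := by
    intro m hm
    by_contra hc
    push Not at hc
    exact hm (C.pi_eq_one hc)
  have hm : (((c * n' * c⁻¹ : ↥(centralizer ({z} : Set G))) : G)) ∈ N :=
    hN.conj c (mem_centralizer_singleton_iff.1 c.2) n hn
  have hm1 : π (c * n' * c⁻¹) ≠ 1 := by
    intro he
    apply hπ
    rw [map_mul, map_mul, map_inv, mul_inv_eq_one] at he
    exact mul_eq_left.1 he
  obtain ⟨w₁, hw₁, hw₁0, h1⟩ := hsame n' hn (hex n' hπ)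
  obtain ⟨w₂, hw₂, hw₂0, h2⟩ := hsame _ hm (hex _ hm1)
  have hww := hsub _ _ hw₁ hw₂ hw₁0 hw₂0
  subst hww
  apply hk
  have h3 : π (n'⁻¹ * (c * n' * c⁻¹)) = 1 := by
    apply C.pi_eq_one
    intro v
    have h4 : h.act (c * n' * c⁻¹) v = h.act n' v := by rw [h1, h2]
    have : h.act (n'⁻¹ * (c * n' * c⁻¹)) v = h.act n'⁻¹ (h.act (c * n' * c⁻¹) v) := by
      rw [map_mul]; rfl
    rw [← hh, this, h4]
    have h5 : h.act n'⁻¹ (h.act n' v) = h.act (n'⁻¹ * n') v := by rw [map_mul]; rfl
    rw [h5, inv_mul_cancel, map_one]; rfl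
  rw [map_mul, map_inv, inv_mul_eq_one, map_mul, map_mul, map_inv] at h3
  exact h3.symm

end Cfsg.Agent.H319
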